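import Groth.Agent.Lefpen.H722.Ring
import Groth.Agent.Lefpen.H718.JacCI

/-!
# The unimodularity condition from the Jacobian condition on the charts
-/

set_option autoImplicit false
universe u

open MvPolynomial

namespace Groth.Agent.Lefpen.H722.Phi

open Groth.Agent.Sga5 Groth.Agent.Lefpen.H722.Ring

variable {k : Type u} [Field k] {N d : ℕ} (G : Fin d → MvPolynomial (Fin (N + 1)) k)

/-- The evaluation of dehomogenized polynomials in the model. -/
noncomputable def rd (I : Set (Fin (N + 1))) (j : Fin (N + 1)) (τ : F G I) :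
    MvPolynomial (Fin N) k →ₐ[k] F G I :=
  aeval fun l => T G I (j.succAbove l) * τ

theorem mk_ofP_eq (I : Set (Fin (N + 1))) (P : MvPolynomial (Fin (N + 1)) k) :
    mk G I (ofP I P) = aeval (T G I) P := by
  induction P using MvPolynomial.induction_on with
  | C c => rw [ofP_C, AlgHom.commutes, aeval_C]
  | add p q hp hq => rw [map_add, map_add, map_add, hp, hq]
  | mul_X p i hp => rw [map_mul, map_mul, map_mul, hp, aeval_X]; rfl

theorem aeval_smul_of_homogeneous {R : Type u} [CommRing R] [Algebra k R] {ι : Type} (f : ι → R) (t : R)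
    {P : MvPolynomial ι k} {m : ℕ} (hP : P.IsHomogeneous m) :
    aeval (fun i => f i * t) P = aeval f P * t ^ m := by
  rw [aeval_def, aeval_def, eval₂_eq, eval₂_eq, Finset.sum_mul]
  refine Finset.sum_congr rfl fun e he => ?_
  have h1 : e.degree = m := by
    have h2 := hP (mem_support_iff.1 he)
    rwa [show (Finsupp.weight 1 : (ι →₀ ℕ) →+ ℕ) = Finsupp.degree from
      (Finsupp.degree_eq_weight_one).symm] at h2
  have h3 : ∏ i ∈ e.support, (f i * t) ^ e i = (∏ i ∈ e.support, f i ^ e i) * t ^ m := by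
    rw [← h1, Finsupp.degree_apply, ← Finset.prod_pow_eq_pow_sum, ← Finset.prod_mul_distrib]
    exact Finset.prod_congr rfl fun i _ => mul_pow _ _ _
  rw [h3, mul_assoc]

theorem rd_dehom {I : Set (Fin (N + 1))} {j : Fin (N + 1)} {τ : F G I} (hτ : T G I j * τ = 1)
    {P : MvPolynomial (Fin (N + 1)) k} {m : ℕ} (hP : P.IsHomogeneous m) :
    rd G I j τ (ProjChart.dehom N k j P) = mk G I (ofP I P) * τ ^ m := by
  rw [mk_ofP_eq, ← aeval_smul_of_homogeneous _ _ hP]
  have h1 : (rd G I j τ).toRingHom.comp (ProjChart.dehom N k j) =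
      (aeval (fun i => T G I i * τ) : MvPolynomial (Fin (N + 1)) k →ₐ[k] F G I).toRingHom := by
    apply MvPolynomial.ringHom_ext
    · intro c
      change rd G I j τ (ProjChart.dehom N k j (C c)) = aeval _ (C c)
      rw [ProjChart.dehom_C, rd, aeval_C, aeval_C]
    · intro i
      change rd G I j τ (ProjChart.dehom N k j (X i)) = aeval _ (X i)
      rw [aeval_X]
      rcases Fin.eq_self_or_eq_succAbove j i with rfl | ⟨l, rfl⟩
      · rw [ProjChart.dehom_X_self, map_one, hτ]
      · rw [ProjChart.dehom_X, rd, aeval_X]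
  exact congrArg (fun f : MvPolynomial (Fin (N + 1)) k →+* F G I => f P) h1

theorem rd_mem {I : Set (Fin (N + 1))} {j : Fin (N + 1)} {τ : F G I} (hτ : τ ∈ gr G I (-1))
    (P : MvPolynomial (Fin N) k) : rd G I j τ P ∈ gr G I 0 := by
  induction P using MvPolynomial.induction_on with
  | C c =>
    rw [rd, aeval_C, Algebra.algebraMap_eq_smul_one]
    exact Submodule.smul_mem _ _ (one_mem_gr G I)
  | add p q hp hq => rw [map_add]; exact Submodule.add_mem _ hp hq
  | mul_X p i hp =>
    have h1 := mul_mem_gr G hp (mul_mem_gr G (T_mem G I (j.succAbove i)) hτ)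
    rw [map_mul, show rd G I j τ (X i) = T G I (j.succAbove i) * τ from aeval_X _ _]
    simpa using h1

theorem pow_mem {I : Set (Fin (N + 1))} {τ : F G I} (hτ : τ ∈ gr G I (-1)) (n : ℕ) :
    τ ^ n ∈ gr G I (-(n : ℤ)) := by
  induction n with
  | zero => simpa using one_mem_gr G I
  | succ n ih =>
    rw [pow_succ]
    have h1 := mul_mem_gr G ih hτ
    rw [show -((n + 1 : ℕ) : ℤ) = -(n : ℤ) + -1 by push_cast; ring]
    exact h1

/-- **The unimodularity condition.** -/
theorem hasΦ (a : Fin d → ℕ) (ha : ∀ j, 1 ≤ a j) (hG : ∀ j, (G j).IsHomogeneous (a j))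
    (hB : ∀ j : Fin (N + 1), ∃ B : Fin N → Fin d → MvPolynomial (Fin N) k, ∀ m m' : Fin d,
      (∑ l, pderiv l (ProjChart.dehom N k j (G m)) * B l m') - (if m = m' then 1 else 0) ∈
        Ideal.span (Set.range fun i => ProjChart.dehom N k j (G i))) : HasΦ G a := by
  classical
  rintro I ⟨j, hj⟩
  obtain ⟨τ, hτm, hτ⟩ := T_inv G I j hj
  obtain ⟨B, hB⟩ := hB j
  have hker : ∀ x ∈ Ideal.span (Set.range fun i => ProjChart.dehom N k j (G i)), rd G I j τ x = 0 := by
    intro x hx
    have h1 : Ideal.span (Set.range fun i => ProjChart.dehom N k j (G i)) ≤ RingHom.ker (rd G I j τ) := by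
      rw [Ideal.span_le]
      rintro _ ⟨i, rfl⟩
      change rd G I j τ (ProjChart.dehom N k j (G i)) = 0
      rw [rd_dehom G hτ (hG i), mk_G, zero_mul]
    exact h1 hx
  have key : ∀ m m' : Fin d, ∑ l, v G I m (j.succAbove l) * (τ ^ (a m - 1) * rd G I j τ (B l m')) =
      if m = m' then 1 else 0 := by
    intro m m'
    have h1 := hker _ (hB m m')
    rw [map_sub, sub_eq_zero, map_sum] at h1
    have h2 : rd G I j τ (if m = m' then 1 else 0) = if m = m' then 1 else 0 := by
      split_ifs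
      · exact map_one _
      · exact map_zero _
    rw [h2] at h1
    rw [← h1]
    refine Finset.sum_congr rfl fun l _ => ?_
    rw [map_mul, H718.Jac.pderiv_dehom, rd_dehom G hτ ((hG m).pderiv), v_apply, mul_assoc]
  refine ⟨fun m' i => if h : m' < d then
    (if h' : ∃ l, j.succAbove l = i then τ ^ (a ⟨m', h⟩ - 1) * rd G I j τ (B h'.choose ⟨m', h⟩) else 0) else 0,
    ?_, ?_⟩
  · intro m' i
    dsimp only
    split_ifs with h h'
    · have h1 := mul_mem_gr G (pow_mem G hτm (a ⟨m', h⟩ - 1)) (rd_mem G (j := j) hτm (B h'.choose ⟨m', h⟩))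
      rw [aZ, dif_pos h]
      rw [Nat.cast_sub (ha _), add_zero] at h1
      rwa [show (1 : ℤ) - (a ⟨m', h⟩ : ℤ) = -((a ⟨m', h⟩ : ℤ) - (1 : ℕ)) by push_cast; ring]
    · exact Submodule.zero_mem _
    · exact Submodule.zero_mem _
  · intro m m' hm hm'
    rw [Fin.sum_univ_succAbove _ j]
    have h0 : ¬ ∃ l, j.succAbove l = j := fun ⟨l, hl⟩ => Fin.succAbove_ne j l hl
    simp only [dif_pos hm', dif_neg h0, mul_zero, zero_add]
    have h3 : ∀ l : Fin N, (if h' : ∃ l', j.succAbove l' = j.succAbove l then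
        τ ^ (a ⟨m', hm'⟩ - 1) * rd G I j τ (B h'.choose ⟨m', hm'⟩) else 0) =
        τ ^ (a ⟨m', hm'⟩ - 1) * rd G I j τ (B l ⟨m', hm'⟩) := by
      intro l
      have h' : ∃ l', j.succAbove l' = j.succAbove l := ⟨l, rfl⟩
      rw [dif_pos h', Fin.succAbove_right_injective h'.choose_spec]
    simp only [h3]
    have h4 := key ⟨m, hm⟩ ⟨m', hm'⟩
    by_cases hmm : m = m'
    · subst hmm
      simpa using h4
    · rw [if_neg (fun h => hmm (Fin.mk.inj_iff.1 h))] at h4
      rw [if_neg hmm]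
      have h5 : ∑ l, v G I m (j.succAbove l) * (τ ^ (a ⟨m', hm'⟩ - 1) * rd G I j τ (B l ⟨m', hm'⟩)) =
          (τ ^ (a ⟨m', hm'⟩ - 1) * T G I j ^ (a ⟨m, hm⟩ - 1)) *
          ∑ l, v G I m (j.succAbove l) * (τ ^ (a ⟨m, hm⟩ - 1) * rd G I j τ (B l ⟨m', hm'⟩)) := by
        rw [Finset.mul_sum]
        refine Finset.sum_congr rfl fun l _ => ?_
        have h6 : T G I j ^ (a ⟨m, hm⟩ - 1) * τ ^ (a ⟨m, hm⟩ - 1) = 1 := by
          rw [← mul_pow, hτ, one_pow]
        linear_combination (-(v G I m (j.succAbove l) * τ ^ (a ⟨m', hm'⟩ - 1) *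
          rd G I j τ (B l ⟨m', hm'⟩))) * h6
      rw [h5, h4, mul_zero]

theorem homogeneous_form {N m : ℕ} (G : LefPen.Form N k m) : G.1.IsHomogeneous m :=
  (mem_homogeneousSubmodule m G.1).1 G.2

/-- The graded system of a smooth complete intersection. -/
noncomputable def ciG {n d : ℕ} {a : Fin d → ℕ} (ha : ∀ j, 1 ≤ a j)
    (G : ∀ j : Fin d, LefPen.Form (n + d) k (a j))
    [AlgebraicGeometry.SmoothOfRelativeDimension n (H718.Chart.yStr G)] :
    GSys.GSys k (Fin (n + d + 1)) :=
  mkG (fun j => (G j).1) a ha (fun j => homogeneous_form (G j))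
    (hasΦ _ a ha (fun j => homogeneous_form (G j)) (H718.JacCI.exists_rightInverse_dehom (n := n) G rfl))

end Groth.Agent.Lefpen.H722.Phi
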