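import Groth.Agent.Lefpen.H722.GSys

/-!
# The Hodge cohomology computation for systems of forms

From the cohomology of the systems `O m` to the cohomology of the systems `Z (p + d) A`,
`A = a 0 + ⋯ + a (d-1)`, which compute `H^i(Y, Ω^p)` for a smooth complete intersection `Y` of dimension `n`.
-/

set_option autoImplicit false
set_option linter.unusedSectionVars false
universe u

open Finset

namespace Groth.Agent.Lefpen.H722.Hodge

open Groth.Agent.Lefpen.H722.Sys Groth.Agent.Lefpen.H722.Forms Groth.Agent.Lefpen.H722.GSys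

variable {k : Type u} [CommRing k] {ι : Type} [LinearOrder ι] [Fintype ι] (𝔊 : GSys k ι)

/-- The sum of the degrees of the first `e` equations. -/
def A (e : ℕ) : ℤ := ∑ j ∈ range e, 𝔊.a j

theorem A_succ (e : ℕ) : A 𝔊 (e + 1) = A 𝔊 e + 𝔊.a e := sum_range_succ _ _

/-- The cohomology of `O_Y(m)` for a complete intersection of dimension `n ≥ 1`. -/
structure OHyp (n : ℕ) : Prop where
  npos : 0 < n
  card : Fintype.card ι = n + 𝔊.d + 1
  a_pos : ∀ j, j < 𝔊.d → 1 ≤ 𝔊.a j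
  mid : ∀ (m : ℤ) (i : ℕ), 0 < i → i < n → Subsingleton (H (O 𝔊 m) i)
  low : ∀ m : ℤ, m < 0 → Subsingleton (H (O 𝔊 m) 0)
  top : ∀ m : ℤ, A 𝔊 𝔊.d - (n + 𝔊.d + 1 : ℕ) < m → Subsingleton (H (O 𝔊 m) n)

variable {𝔊} {n : ℕ}

/-- Low degree vanishing. -/
theorem vanish_low (h : OHyp 𝔊 n) (e : ℕ) (he : e ≤ 𝔊.d) : ∀ (q : ℕ) (m : ℤ) (i : ℕ), m ≤ A 𝔊 e →
    i + q < n + e → ¬ (i = 0 ∧ q = e ∧ m = A 𝔊 e) → Subsingleton (H (N 𝔊 e q m) i) := by
  induction e with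
  | zero =>
    intro q m i hm hi hex
    have hA : A 𝔊 0 = 0 := sum_range_zero _
    rw [hA] at hm hex
    apply subsingleton_N0
    rcases Nat.eq_zero_or_pos i with rfl | hi0
    · exact h.low _ (by omega)
    · exact h.mid _ i hi0 (by omega)
  | succ e ih =>
    intro q
    induction q with
    | zero =>
      intro m i _ _ _
      exact subsingleton_N_of_lt 𝔊 (e + 1) 0 m he (by omega) i
    | succ q ihq =>
      intro m i hm hi hex
      have ha := h.a_pos e (by omega)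
      have hA := A_succ 𝔊 e
      exact subsingleton_right (isSES_N 𝔊 e q (m - 𝔊.a e) m (by ring) (by omega)) i
        (ih (by omega) q _ i (by omega) (by omega) (fun hc => hex ⟨hc.1, by omega, by omega⟩))
        (ihq _ (i + 1) (by omega) (by omega) (by omega))

/-- High degree vanishing. -/
theorem vanish_high (h : OHyp 𝔊 n) (e : ℕ) (he : e ≤ 𝔊.d) : ∀ (q : ℕ) (m : ℤ) (i : ℕ),
    A 𝔊 𝔊.d ≤ m → i ≤ n → n + 𝔊.d + 1 < i + q →
    ¬ (q = n + 𝔊.d + 1 ∧ i = n ∧ m = A 𝔊 𝔊.d) → Subsingleton (H (N 𝔊 e q m) i) := by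
  have hc := h.card
  induction e with
  | zero =>
    intro q m i hm hi hq hex
    by_cases hq2 : n + 𝔊.d + 1 < q
    · exact subsingleton_N_of_card_lt 𝔊 0 q m (by omega) i
    · apply subsingleton_N0
      rcases Nat.lt_or_ge i n with hin | hin
      · exact h.mid _ i (by omega) hin
      · obtain rfl : i = n := le_antisymm hi hin
        exact h.top _ (by omega)
  | succ e ih =>
    have key : ∀ (t q : ℕ), n + 𝔊.d + 2 ≤ q + t → ∀ (m : ℤ) (i : ℕ),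
        A 𝔊 𝔊.d ≤ m → i ≤ n → n + 𝔊.d + 1 < i + q →
        ¬ (q = n + 𝔊.d + 1 ∧ i = n ∧ m = A 𝔊 𝔊.d) → Subsingleton (H (N 𝔊 (e + 1) q m) i) := by
      intro t
      induction t with
      | zero =>
        intro q hq m i _ _ _ _
        exact subsingleton_N_of_card_lt 𝔊 (e + 1) q m (by omega) i
      | succ t iht =>
        intro q hq m i hm hi hqi hex
        by_cases hq2 : n + 𝔊.d + 1 < q
        · exact subsingleton_N_of_card_lt 𝔊 (e + 1) q m (by omega) i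
        · obtain ⟨i, rfl⟩ : ∃ i', i = i' + 1 := ⟨i - 1, by omega⟩
          have ha := h.a_pos e (by omega)
          exact subsingleton_left (isSES_N 𝔊 e q m (m + 𝔊.a e) rfl (by omega)) i
            (iht (q + 1) (by omega) _ i (by omega) (by omega) (by omega) (by omega))
            (ih (by omega) q m (i + 1) hm hi hqi hex)
    intro q m i
    exact key (n + 𝔊.d + 2) q (by omega) m i

theorem step_low (h : OHyp 𝔊 n) (i p : ℕ) (hip : i + p + 2 < n) :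
    Nonempty (H (Z 𝔊 (p + 𝔊.d) (A 𝔊 𝔊.d)) i ≃ₗ[k] H (Z 𝔊 (p + 1 + 𝔊.d) (A 𝔊 𝔊.d)) (i + 1)) := by
  have := nonempty_equiv_δ (isSES_Z 𝔊 (p + 𝔊.d) (A 𝔊 𝔊.d)) i
    (vanish_low h 𝔊.d le_rfl _ _ i le_rfl (by omega) (by omega))
    (vanish_low h 𝔊.d le_rfl _ _ (i + 1) le_rfl (by omega) (by omega))
  rwa [show p + 1 + 𝔊.d = p + 𝔊.d + 1 by ring]

theorem step_high (h : OHyp 𝔊 n) (i p : ℕ) (hi : i < n) (hp : p < n) (hip : n < i + p) :
    Nonempty (H (Z 𝔊 (p + 𝔊.d) (A 𝔊 𝔊.d)) i ≃ₗ[k] H (Z 𝔊 (p + 1 + 𝔊.d) (A 𝔊 𝔊.d)) (i + 1)) := by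
  have := nonempty_equiv_δ (isSES_Z 𝔊 (p + 𝔊.d) (A 𝔊 𝔊.d)) i
    (vanish_high h 𝔊.d le_rfl _ _ i le_rfl (by omega) (by omega) (by omega))
    (vanish_high h 𝔊.d le_rfl _ _ (i + 1) le_rfl (by omega) (by omega) (by omega))
  rwa [show p + 1 + 𝔊.d = p + 𝔊.d + 1 by ring]

/-- `H^i(Z (p+d)) ≃ H^{i+t}(Z (p+t+d))` for `i + p + 2 t < n`. -/
theorem chain_low (h : OHyp 𝔊 n) (i p t : ℕ) (hip : i + p + 2 * t < n) :
    Nonempty (H (Z 𝔊 (p + 𝔊.d) (A 𝔊 𝔊.d)) i ≃ₗ[k] H (Z 𝔊 (p + t + 𝔊.d) (A 𝔊 𝔊.d)) (i + t)) := by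
  induction t with
  | zero => exact ⟨LinearEquiv.refl _ _⟩
  | succ t ih =>
    obtain ⟨e⟩ := ih (by omega)
    obtain ⟨f⟩ := step_low h (i + t) (p + t) (by omega)
    exact ⟨e.trans f⟩

theorem chain_high (h : OHyp 𝔊 n) (i p t : ℕ) (hi : i + t ≤ n) (hp : p + t ≤ n) (hip : n < i + p) :
    Nonempty (H (Z 𝔊 (p + 𝔊.d) (A 𝔊 𝔊.d)) i ≃ₗ[k] H (Z 𝔊 (p + t + 𝔊.d) (A 𝔊 𝔊.d)) (i + t)) := by
  induction t with
  | zero => exact ⟨LinearEquiv.refl _ _⟩
  | succ t ih =>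
    obtain ⟨e⟩ := ih (by omega) (by omega)
    obtain ⟨f⟩ := step_high h (i + t) (p + t) (by omega) (by omega) (by omega)
    exact ⟨e.trans f⟩

/-- `H^i(Ω^0) = H^i(O)`. -/
theorem bottom (𝔊 : GSys k ι) (i : ℕ) :
    Nonempty (H (O 𝔊 0) i ≃ₗ[k] H (Z 𝔊 (0 + 𝔊.d) (A 𝔊 𝔊.d)) i) := by
  obtain ⟨e⟩ := nonempty_diag 𝔊 𝔊.d le_rfl 0 i
  obtain ⟨f⟩ := nonempty_Z_equiv_N 𝔊 𝔊.d (A 𝔊 𝔊.d) le_rfl i
  rw [zero_add] at e ⊢
  exact ⟨e.trans f.symm⟩

/-- `H^i(Ω^n) = H^i(O(A - r - 1))`. -/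
theorem top' (𝔊 : GSys k ι) (hc : Fintype.card ι = n + 𝔊.d + 1) (i : ℕ) :
    Nonempty (H (Z 𝔊 (n + 𝔊.d) (A 𝔊 𝔊.d)) i ≃ₗ[k]
      H (O 𝔊 (A 𝔊 𝔊.d - (n + 𝔊.d + 1 : ℕ))) i) :=
  nonempty_topZ 𝔊 (n + 𝔊.d) hc _ _ (by push_cast; ring) i

/-- **Diagonal Hodge cohomology.** -/
theorem diag (h : OHyp 𝔊 n) (h0 : Module.finrank k (H (O 𝔊 0) 0) = 1)
    (hn : Module.finrank k (H (O 𝔊 (A 𝔊 𝔊.d - (n + 𝔊.d + 1 : ℕ))) n) = 1)
    (i : ℕ) (hi : i ≤ n) (hin : 2 * i ≠ n) :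
    Module.finrank k (H (Z 𝔊 (i + 𝔊.d) (A 𝔊 𝔊.d)) i) = 1 := by
  rcases Nat.lt_or_gt_of_ne hin with hlt | hgt
  · obtain ⟨e⟩ := chain_low h 0 0 i (by omega)
    obtain ⟨f⟩ := bottom 𝔊 0
    rw [zero_add i] at e
    rw [← e.finrank_eq, ← f.finrank_eq, h0]
  · obtain ⟨t, ht⟩ : ∃ t, i + t = n := ⟨n - i, by omega⟩
    obtain ⟨e⟩ := chain_high h i i t (by omega) (by omega) (by omega)
    obtain ⟨f⟩ := top' 𝔊 h.card n
    rw [ht] at e
    rw [e.finrank_eq, f.finrank_eq, hn]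

/-! ### Off-diagonal vanishing -/

section Vanishing

variable (hbig : ∀ (m : ℤ) (i : ℕ), n < i → Subsingleton (H (O 𝔊 m) i))

include hbig in
theorem vanish_big_N (e : ℕ) (he : e ≤ 𝔊.d) : ∀ (q : ℕ) (m : ℤ) (i : ℕ), n < i →
    Subsingleton (H (N 𝔊 e q m) i) := by
  induction e with
  | zero =>
    intro q m i hi
    exact subsingleton_N0 𝔊 q m i (hbig _ i hi)
  | succ e ih =>
    intro q
    induction q with
    | zero =>
      intro m i _
      exact subsingleton_N_of_lt 𝔊 (e + 1) 0 m he (by omega) i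
    | succ q ihq =>
      intro m i hi
      exact subsingleton_right (isSES_N 𝔊 e q (m - 𝔊.a e) m (by ring) (by omega)) i
        (ih (by omega) q _ i hi) (ihq _ (i + 1) (by omega))

include hbig in
theorem vanish_big_Z (q : ℕ) (m : ℤ) (i : ℕ) (hi : n < i) : Subsingleton (H (Z 𝔊 q m) i) := by
  have key : ∀ (t q : ℕ), Fintype.card ι ≤ q + t → ∀ i : ℕ, n < i → Subsingleton (H (Z 𝔊 q m) i) := by
    intro t
    induction t with
    | zero =>
      intro q hq i _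
      exact subsingleton_Z_of_card_le 𝔊 q m hq i
    | succ t iht =>
      intro q hq i hi
      exact subsingleton_right (isSES_Z 𝔊 q m) i (vanish_big_N hbig 𝔊.d le_rfl _ _ i hi)
        (iht (q + 1) (by omega) (i + 1) (by omega))
  exact key (Fintype.card ι) q (by omega) i hi

omit hbig in
/-- **Off-diagonal vanishing of Hodge cohomology**, with the vanishing above the dimension only for the
systems of forms. -/
theorem vanishZ (hbigZ : ∀ q i, n < i → Subsingleton (H (Z 𝔊 (q + 𝔊.d) (A 𝔊 𝔊.d)) i)) (h : OHyp 𝔊 n) (i p : ℕ) (hip : i ≠ p) (hn : i + p ≠ n) :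
    Subsingleton (H (Z 𝔊 (p + 𝔊.d) (A 𝔊 𝔊.d)) i) := by
  have hc := h.card
  rcases Nat.lt_or_gt_of_ne hn with hlt | hgt
  · rcases Nat.lt_or_gt_of_ne hip with hip | hip
    · -- `i < p`: down to `H^0(Ω^{p-i})`
      obtain ⟨s, rfl⟩ : ∃ s, p = s + i := ⟨p - i, by omega⟩
      obtain ⟨e⟩ := chain_low h 0 s i (by omega)
      rw [zero_add i] at e
      have h1 : Subsingleton (H (Z 𝔊 (s + 𝔊.d) (A 𝔊 𝔊.d)) 0) :=
        subsingleton_h0 (f := inclZ 𝔊 (s + 𝔊.d) (A 𝔊 𝔊.d))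
          (fun _ _ x y hxy => by
            have h1 := congrArg Subtype.val hxy
            exact Subtype.ext h1)
          (vanish_low h 𝔊.d le_rfl _ _ 0 le_rfl (by omega) (by omega))
      exact e.symm.toEquiv.subsingleton
    · -- `p < i`: down to `H^{i-p}(O)`
      obtain ⟨s, rfl⟩ : ∃ s, i = s + p := ⟨i - p, by omega⟩
      obtain ⟨e⟩ := chain_low h s 0 p (by omega)
      obtain ⟨f⟩ := bottom 𝔊 s
      rw [zero_add p] at e
      have h1 : Subsingleton (H (O 𝔊 0) s) := h.mid 0 s (by omega) (by omega)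
      exact (f.trans e).symm.toEquiv.subsingleton
  · by_cases hin : n < i
    · exact hbigZ _ i hin
    by_cases hpn : n < p
    · exact subsingleton_Z_of_card_le 𝔊 _ _ (by omega) i
    rcases Nat.lt_or_gt_of_ne hip with hip | hip
    · -- `i < p`: up to `H^{i+n-p}(Ω^n)`
      obtain ⟨t, ht⟩ : ∃ t, p + t = n := ⟨n - p, by omega⟩
      obtain ⟨e⟩ := chain_high h i p t (by omega) (by omega) (by omega)
      rw [ht] at e
      obtain ⟨f⟩ := top' 𝔊 hc (i + t)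
      have h1 : Subsingleton (H (O 𝔊 (A 𝔊 𝔊.d - (n + 𝔊.d + 1 : ℕ))) (i + t)) :=
        h.mid _ (i + t) (by omega) (by omega)
      exact (e.trans f).toEquiv.subsingleton
    · -- `p < i`: up to `H^n(Ω^{p+n-i})`
      obtain ⟨t, ht⟩ : ∃ t, i + t = n := ⟨n - i, by omega⟩
      obtain ⟨e⟩ := chain_high h i p t (by omega) (by omega) (by omega)
      rw [ht] at e
      obtain ⟨f, hf⟩ := exists_injective_δ (isSES_Z 𝔊 (p + t + 𝔊.d) (A 𝔊 𝔊.d)) n
        (vanish_high h 𝔊.d le_rfl _ _ n le_rfl le_rfl (by omega) (by omega))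
      have h1 := hbigZ (p + t + 1) (n + 1) (by omega)
      rw [Nat.add_right_comm] at h1
      have h2 : Subsingleton (H (Z 𝔊 (p + t + 𝔊.d) (A 𝔊 𝔊.d)) n) := hf.subsingleton
      exact e.toEquiv.subsingleton

include hbig in
/-- **Off-diagonal vanishing of Hodge cohomology.** -/
theorem vanish (h : OHyp 𝔊 n) (i p : ℕ) (hip : i ≠ p) (hn : i + p ≠ n) :
    Subsingleton (H (Z 𝔊 (p + 𝔊.d) (A 𝔊 𝔊.d)) i) :=
  vanishZ (fun _ _ hi => vanish_big_Z hbig _ _ _ hi) h i p hip hn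

end Vanishing

end Groth.Agent.Lefpen.H722.Hodge
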