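import Groth.Agent.Lefpen.H722.Glue
import Groth.Agent.Lefpen.H278.SecSys
import Groth.Agent.Lefpen.H721.OmegaSec
import Groth.Agent.PerfA.QCohEpi

/-!
# Cohomology of exterior powers of the differentials by systems of algebraic forms
-/

set_option autoImplicit false
universe u

open CategoryTheory CategoryTheory.Limits AlgebraicGeometry Opposite TopologicalSpace

namespace Groth.Agent.Lefpen.H722.Comp

open Groth.Agent.Lefpen.H722.Sys Groth.Agent.Lefpen.H722.Glue Groth.Agent.Lefpen.H278.SecSys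
open Groth.Agent.Lefpen.H721.OmegaSec Groth.Agent.Lefpen.H721.OmegaPow Groth.Agent.Fga.MumCech
open Groth.Agent.CurvesB.OmegaStalkDict

variable {k : Type u} [Field k] {X : Scheme.{u}} (f : X ⟶ Spec (CommRingCat.of k))
  [hO : X.Over (Spec (CommRingCat.of k))] (hover : X ↘ Spec (CommRingCat.of k) = f)
  {ι : Type} (U : ι → X.Opens)

include hover in
theorem glV_eq (V : X.Opens) (c : k) : glV k V c = algebraMap k (SA f V) c := by
  subst hover
  rfl

/-- An equivalence linear over the functions is `k`-linear. -/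
noncomputable def toK (L : X.Modules) (V : X.Opens) {M : Type u} [AddCommGroup M] [Module (SA f V) M]
    [Module k M] [IsScalarTower k (SA f V) M] (e : M ≃ₗ[SA f V] Γ(L, V)) : M ≃ₗ[k] Sec k L V where
  toFun x := e x
  map_add' x y := map_add e x y
  map_smul' c x := by
    rw [RingHom.id_apply, ← algebraMap_smul (SA f V) c x, map_smul]
    change (algebraMap k (SA f V) c) • e x = (glV k V c) • e x
    rw [glV_eq f hover]
    rfl
  invFun x := e.symm x
  left_inv x := e.symm_apply_apply x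
  right_inv x := e.apply_symm_apply x

include hover in
/-- **The comparison.** -/
theorem nonempty_equiv_omega [QuasiCompact (pullback.diagonal f)] [Fintype ι]
    (hcov : ⨆ i, U i = ⊤) (hU : ∀ I : Set ι, I.Nonempty → IsAffineOpen (UI U I)) {j : ℕ} {L : X.Modules}
    (hL : ExtPow.IsExtPow j (Omega.sheaf f) L) (hq : Coh.IsQCoh L) {V : Sys k ι}
    (e : ∀ I : Set ι, I.Nonempty → (⋀[SA f (UI U I)]^j Ω[SA f (UI U I)⁄k] ≃ₗ[k] V.M I))
    (he : ∀ (I J : Set ι) (hI : I.Nonempty) (h : I ⊆ J) (x : ⋀[SA f (UI U I)]^j Ω[SA f (UI U I)⁄k]),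
      e J (hI.mono h) (powS (resA f (UI_anti U h)) j x) = V.res h (e I hI x)) (p : ℕ) :
    Nonempty (H V p ≃ₗ[k] Coh.HH X L p) := by
  obtain ⟨E, hE⟩ := exists_equiv_family f hL
  obtain ⟨e₁⟩ := nonempty_equiv k U hcov (fun s hs => hU (s : Set ι) hs) L hq p
  obtain ⟨e₂⟩ := nonempty_equiv_of_nat (V := V) (W := secSys k U L)
    (fun I hI => (e I hI).symm.trans (toK f hover L (UI U I) (E ⟨UI U I, hU I hI⟩))) (by
      intro I J hI h x
      obtain ⟨y, rfl⟩ := (e I hI).surjective x
      rw [← he, LinearEquiv.trans_apply, LinearEquiv.trans_apply, LinearEquiv.symm_apply_apply,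
        LinearEquiv.symm_apply_apply]
      exact (hE ⟨UI U I, hU I hI⟩ ⟨UI U J, hU J (hI.mono h)⟩ (UI_anti U h) y).symm) p
  exact ⟨e₂.trans e₁⟩

end Groth.Agent.Lefpen.H722.Comp
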