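import Groth.Agent.Ega3B.Cube
import Mathlib.Algebra.Module.LinearMap.Basic
import Mathlib.Algebra.Module.Submodule.Basic
import Mathlib.Algebra.Module.Pi
import Mathlib.Algebra.Algebra.Hom
import Mathlib.Tactic.NoncommRing

/-!
# Exterior forms with coordinates

Functions `Finset ι → F` (`ι` a finite linear order) as exterior forms on `F^ι`:
`ex i` is the exterior multiplication with the `i`-th basis vector, `co i` the contraction with the dual basis vector,
`D v = ∑ v i • ex i`, `K w = ∑ w i • co i`.
-/

set_option autoImplicit false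
universe u

open Finset
open Groth.Agent.Ega3B.Cube (sgn sgn_mul_self sgn_insert_self sgn_erase_self sgn_key)

namespace Groth.Agent.Lefpen.H722.Forms

variable {ι : Type} [LinearOrder ι] {F : Type u} [CommRing F]

/-- Exterior multiplication with a basis vector. -/
def ex (i : ι) : (Finset ι → F) →ₗ[F] (Finset ι → F) where
  toFun x s := if i ∈ s then sgn i s • x (s.erase i) else 0
  map_add' x y := by
    funext s
    simp only [Pi.add_apply]
    split_ifs
    · rw [smul_add]
    · rw [add_zero]
  map_smul' c x := by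
    funext s
    simp only [Pi.smul_apply, RingHom.id_apply]
    split_ifs
    · rw [smul_comm]
    · rw [smul_zero]

/-- Contraction with a dual basis vector. -/
def co (i : ι) : (Finset ι → F) →ₗ[F] (Finset ι → F) where
  toFun x s := if i ∈ s then 0 else sgn i (insert i s) • x (insert i s)
  map_add' x y := by
    funext s
    simp only [Pi.add_apply]
    split_ifs
    · rw [add_zero]
    · rw [smul_add]
  map_smul' c x := by
    funext s
    simp only [Pi.smul_apply, RingHom.id_apply]
    split_ifs
    · rw [smul_zero]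
    · rw [smul_comm]

theorem ex_apply_of_mem {i : ι} {s : Finset ι} (h : i ∈ s) (x : Finset ι → F) :
    ex i x s = sgn i s • x (s.erase i) := if_pos h

theorem ex_apply_of_notMem {i : ι} {s : Finset ι} (h : i ∉ s) (x : Finset ι → F) :
    ex i x s = 0 := if_neg h

theorem co_apply_of_mem {i : ι} {s : Finset ι} (h : i ∈ s) (x : Finset ι → F) :
    co i x s = 0 := if_pos h

theorem co_apply_of_notMem {i : ι} {s : Finset ι} (h : i ∉ s) (x : Finset ι → F) :
    co i x s = sgn i (insert i s) • x (insert i s) := if_neg h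

theorem ex_insert {i : ι} {t : Finset ι} (h : i ∉ t) (x : Finset ι → F) :
    ex i x (insert i t) = sgn i (insert i t) • x t := by
  rw [ex_apply_of_mem (mem_insert_self _ _), erase_insert h]

theorem ex_ex_self (i : ι) (x : Finset ι → F) : ex i (ex i x) = 0 := by
  funext s
  by_cases h : i ∈ s
  · rw [ex_apply_of_mem h, ex_apply_of_notMem (notMem_erase _ _), smul_zero]
    rfl
  · rw [ex_apply_of_notMem h]
    rfl

theorem co_co_self (i : ι) (x : Finset ι → F) : co i (co i x) = 0 := by
  funext s
  by_cases h : i ∈ s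
  · rw [co_apply_of_mem h]
    rfl
  · rw [co_apply_of_notMem h, co_apply_of_mem (mem_insert_self _ _), smul_zero]
    rfl

theorem ex_ex (i j : ι) (x : Finset ι → F) : ex i (ex j x) + ex j (ex i x) = 0 := by
  by_cases hij : i = j
  · subst hij
    rw [ex_ex_self, add_zero]
  funext s
  rw [Pi.add_apply, Pi.zero_apply]
  by_cases hi : i ∈ s
  · by_cases hj : j ∈ s
    · obtain ⟨t, hit, hjt, rfl⟩ : ∃ t, i ∉ t ∧ j ∉ t ∧ insert i (insert j t) = s := by
        refine ⟨(s.erase i).erase j, by simp, by simp, ?_⟩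
        rw [insert_erase (mem_erase.2 ⟨Ne.symm hij, hj⟩), insert_erase hi]
      rw [ex_insert (by simp [hit, hij]), ex_insert hjt, insert_comm, ex_insert (by simp [hjt, Ne.symm hij]),
        ex_insert hit, smul_smul, smul_smul, ← add_smul]
      have := sgn_key hij hit hjt
      rw [insert_comm i j t] at this
      have h2 : sgn i (insert j (insert i t)) * sgn j (insert j t) +
        sgn j (insert j (insert i t)) * sgn i (insert i t) = 0 := by linarith
      rw [h2, zero_smul]
    · rw [ex_apply_of_mem hi, ex_apply_of_notMem (by simp [hj]), ex_apply_of_notMem hj, smul_zero,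
        add_zero]
  · rw [ex_apply_of_notMem hi, zero_add]
    by_cases hj : j ∈ s
    · rw [ex_apply_of_mem hj, ex_apply_of_notMem (by simp [hi]), smul_zero]
    · rw [ex_apply_of_notMem hj]

theorem co_co (i j : ι) (x : Finset ι → F) : co i (co j x) + co j (co i x) = 0 := by
  by_cases hij : i = j
  · subst hij
    rw [co_co_self, add_zero]
  funext s
  rw [Pi.add_apply, Pi.zero_apply]
  by_cases hi : i ∈ s
  · rw [co_apply_of_mem hi, zero_add]
    by_cases hj : j ∈ s
    · rw [co_apply_of_mem hj]
    · rw [co_apply_of_notMem hj, co_apply_of_mem (by simp [hi]), smul_zero]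
  · by_cases hj : j ∈ s
    · rw [co_apply_of_notMem hi, co_apply_of_mem (by simp [hj]), co_apply_of_mem hj, smul_zero,
        add_zero]
    · rw [co_apply_of_notMem hi, co_apply_of_notMem (by simp [hj, Ne.symm hij]),
        co_apply_of_notMem hj, co_apply_of_notMem (by simp [hi, hij]), smul_smul, smul_smul,
        insert_comm i j s, ← add_smul]
      have := sgn_key hij hi hj
      rw [insert_comm i j s] at this
      have h2 : sgn i (insert i s) * sgn j (insert j (insert i s)) +
        sgn j (insert j s) * sgn i (insert j (insert i s)) = 0 := by linarith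
      rw [h2, zero_smul]

theorem co_ex_self (i : ι) (x : Finset ι → F) : co i (ex i x) + ex i (co i x) = x := by
  funext s
  rw [Pi.add_apply]
  by_cases hi : i ∈ s
  · obtain ⟨t, hit, rfl⟩ : ∃ t, i ∉ t ∧ insert i t = s := ⟨s.erase i, by simp, insert_erase hi⟩
    rw [co_apply_of_mem (mem_insert_self _ _), ex_insert hit, co_apply_of_notMem hit, smul_smul,
      sgn_mul_self, one_smul, zero_add]
  · rw [co_apply_of_notMem hi, ex_insert hi, ex_apply_of_notMem hi, smul_smul, sgn_mul_self,
      one_smul, add_zero]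

theorem co_ex_of_ne {i j : ι} (hij : i ≠ j) (x : Finset ι → F) :
    co i (ex j x) + ex j (co i x) = 0 := by
  funext s
  rw [Pi.add_apply, Pi.zero_apply]
  by_cases hi : i ∈ s
  · rw [co_apply_of_mem hi, zero_add]
    by_cases hj : j ∈ s
    · rw [ex_apply_of_mem hj, co_apply_of_mem (mem_erase.2 ⟨hij, hi⟩), smul_zero]
    · rw [ex_apply_of_notMem hj]
  · by_cases hj : j ∈ s
    · obtain ⟨t, hjt, rfl⟩ : ∃ t, j ∉ t ∧ insert j t = s := ⟨s.erase j, by simp, insert_erase hj⟩
      have hit : i ∉ t := fun h => hi (mem_insert_of_mem h)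
      rw [co_apply_of_notMem hi, insert_comm, ex_insert (by simp [hjt, Ne.symm hij]), ex_insert hjt,
        co_apply_of_notMem hit, smul_smul, smul_smul, insert_comm j i t, ← add_smul]
      have h1 := sgn_key hij hit hjt
      rw [insert_comm j i t] at h1
      have e1 := sgn_mul_self i (insert i t)
      have e2 := sgn_mul_self i (insert i (insert j t))
      have h2 : sgn i (insert i (insert j t)) * sgn j (insert i (insert j t)) +
          sgn j (insert j t) * sgn i (insert i t) = 0 := by
        have h3 : sgn j (insert i (insert j t)) =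
            - (sgn i (insert i (insert j t)) * sgn j (insert j t)) * sgn i (insert i t) := by
          rw [← h1, mul_assoc, e1, mul_one]
        rw [h3]
        linear_combination (- sgn j (insert j t) * sgn i (insert i t)) * e2
      rw [h2, zero_smul]
    · rw [co_apply_of_notMem hi, ex_apply_of_notMem (by simp [hj, Ne.symm hij]),
        ex_apply_of_notMem hj, smul_zero, add_zero]

section Ops

variable [Fintype ι]

/-- Exterior multiplication with a covector. -/
def D (v : ι → F) : (Finset ι → F) →ₗ[F] (Finset ι → F) := ∑ i, v i • ex i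

/-- Contraction with a vector. -/
def K (w : ι → F) : (Finset ι → F) →ₗ[F] (Finset ι → F) := ∑ i, w i • co i

theorem D_apply (v : ι → F) (x : Finset ι → F) : D v x = ∑ i, v i • ex i x := by
  rw [D, LinearMap.sum_apply]
  rfl

theorem K_apply (w : ι → F) (x : Finset ι → F) : K w x = ∑ i, w i • co i x := by
  rw [K, LinearMap.sum_apply]
  rfl

theorem D_D (v v' : ι → F) (x : Finset ι → F) : D v (D v' x) + D v' (D v x) = 0 := by
  simp only [D_apply, map_sum, map_smul, Finset.smul_sum]
  rw [Finset.sum_comm (s := univ) (t := univ) (f := fun i j => v' i • v j • (ex j) ((ex i) x)),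
    ← Finset.sum_add_distrib]
  refine Finset.sum_eq_zero fun i _ => ?_
  rw [← Finset.sum_add_distrib]
  refine Finset.sum_eq_zero fun j _ => ?_
  rw [smul_comm (v' j) (v i), ← smul_add, ← smul_add, ex_ex, smul_zero, smul_zero]

theorem K_K (w w' : ι → F) (x : Finset ι → F) : K w (K w' x) + K w' (K w x) = 0 := by
  simp only [K_apply, map_sum, map_smul, Finset.smul_sum]
  rw [Finset.sum_comm (s := univ) (t := univ) (f := fun i j => w' i • w j • (co j) ((co i) x)),
    ← Finset.sum_add_distrib]
  refine Finset.sum_eq_zero fun i _ => ?_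
  rw [← Finset.sum_add_distrib]
  refine Finset.sum_eq_zero fun j _ => ?_
  rw [smul_comm (w' j) (w i), ← smul_add, ← smul_add, co_co, smul_zero, smul_zero]

omit [LinearOrder ι] in
/-- The square of an alternating double sum vanishes. -/
theorem sum_alt {M : Type*} [AddCommGroup M] (f : ι → ι → M) (h0 : ∀ i, f i i = 0)
    (h : ∀ i j, f i j + f j i = 0) : ∑ i, ∑ j, f i j = 0 := by
  rw [← Finset.sum_product']
  refine Finset.sum_involution (fun p _ => (p.2, p.1)) ?_ ?_ ?_ ?_
  · rintro ⟨i, j⟩ _
    exact h i j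
  · rintro ⟨i, j⟩ _ hne heq
    apply hne
    have : i = j := (congrArg Prod.snd heq)
    subst this
    exact h0 _
  · intro _ _
    simp
  · intro _ _
    rfl

theorem D_D_self (v : ι → F) (x : Finset ι → F) : D v (D v x) = 0 := by
  simp only [D_apply, map_sum, map_smul, Finset.smul_sum]
  refine sum_alt _ (fun i => ?_) (fun i j => ?_)
  · rw [ex_ex_self, smul_zero, smul_zero]
  · rw [smul_comm (v j) (v i), ← smul_add, ← smul_add, ex_ex, smul_zero, smul_zero]

theorem K_K_self (w : ι → F) (x : Finset ι → F) : K w (K w x) = 0 := by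
  simp only [K_apply, map_sum, map_smul, Finset.smul_sum]
  refine sum_alt _ (fun i => ?_) (fun i j => ?_)
  · rw [co_co_self, smul_zero, smul_zero]
  · rw [smul_comm (w j) (w i), ← smul_add, ← smul_add, co_co, smul_zero, smul_zero]

/-- The Cartan type relation. -/
theorem K_D (w v : ι → F) (x : Finset ι → F) :
    K w (D v x) + D v (K w x) = (∑ i, v i * w i) • x := by
  simp only [D_apply, K_apply, map_sum, map_smul, Finset.smul_sum]
  rw [Finset.sum_comm (s := univ) (t := univ) (f := fun i j => v i • w j • (co j) ((ex i) x)),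
    ← Finset.sum_add_distrib, Finset.sum_smul]
  refine Finset.sum_congr rfl fun i _ => ?_
  rw [← Finset.sum_add_distrib, Finset.sum_eq_single i]
  · rw [smul_comm (v i) (w i), ← smul_add, ← smul_add, co_ex_self, smul_smul, mul_comm]
  · intro j _ hj
    rw [smul_comm (v j) (w i), ← smul_add, ← smul_add, co_ex_of_ne (Ne.symm hj), smul_zero,
      smul_zero]
  · intro h
    exact absurd (mem_univ _) h

theorem D_eq_neg (v v' : ι → F) (x : Finset ι → F) : D v (D v' x) = - D v' (D v x) :=
  eq_neg_of_add_eq_zero_left (D_D v v' x)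

theorem K_D_eq (w v : ι → F) (x : Finset ι → F) :
    K w (D v x) = (∑ i, v i * w i) • x - D v (K w x) := eq_sub_of_add_eq (K_D w v x)

theorem D_K_eq (w v : ι → F) (x : Finset ι → F) :
    D v (K w x) = (∑ i, v i * w i) • x - K w (D v x) := by
  rw [← K_D w v x]
  abel

end Ops

/-! ### Base change -/

section Map

variable {F' : Type u} [CommRing F'] (ρ : F →+* F')

/-- Coordinatewise base change of forms. -/
def mapF (x : Finset ι → F) : Finset ι → F' := fun s => ρ (x s)

omit [LinearOrder ι] in
theorem mapF_apply (x : Finset ι → F) (s : Finset ι) : mapF ρ x s = ρ (x s) := rfl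

theorem mapF_ex (i : ι) (x : Finset ι → F) : mapF ρ (ex i x) = ex i (mapF ρ x) := by
  funext s
  rw [mapF_apply]
  by_cases h : i ∈ s
  · rw [ex_apply_of_mem h, ex_apply_of_mem h, map_zsmul]
    rfl
  · rw [ex_apply_of_notMem h, ex_apply_of_notMem h, map_zero]

theorem mapF_co (i : ι) (x : Finset ι → F) : mapF ρ (co i x) = co i (mapF ρ x) := by
  funext s
  rw [mapF_apply]
  by_cases h : i ∈ s
  · rw [co_apply_of_mem h, co_apply_of_mem h, map_zero]
  · rw [co_apply_of_notMem h, co_apply_of_notMem h, map_zsmul]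
    rfl

theorem mapF_D [Fintype ι] (v : ι → F) (x : Finset ι → F) :
    mapF ρ (D v x) = D (fun i => ρ (v i)) (mapF ρ x) := by
  rw [D_apply, D_apply]
  funext s
  rw [mapF_apply, Finset.sum_apply, Finset.sum_apply, map_sum]
  refine Finset.sum_congr rfl fun i _ => ?_
  rw [Pi.smul_apply, Pi.smul_apply, smul_eq_mul, smul_eq_mul, map_mul, ← mapF_ex]
  rfl

theorem mapF_K [Fintype ι] (w : ι → F) (x : Finset ι → F) :
    mapF ρ (K w x) = K (fun i => ρ (w i)) (mapF ρ x) := by
  rw [K_apply, K_apply]
  funext s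
  rw [mapF_apply, Finset.sum_apply, Finset.sum_apply, map_sum]
  refine Finset.sum_congr rfl fun i _ => ?_
  rw [Pi.smul_apply, Pi.smul_apply, smul_eq_mul, smul_eq_mul, map_mul, ← mapF_co]
  rfl

end Map

/-! ### Degrees -/

section Deg

variable {k : Type u} [CommRing k] [Algebra k F] (gr : ℤ → Submodule k F)

/-- The forms of form degree `q` and total degree `m`. -/
def Fm (q : ℕ) (m : ℤ) : Submodule k (Finset ι → F) where
  carrier := {x | (∀ s : Finset ι, s.card = q → x s ∈ gr (m - q)) ∧
    ∀ s : Finset ι, s.card ≠ q → x s = 0}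
  zero_mem' := ⟨fun _ _ => Submodule.zero_mem _, fun _ _ => rfl⟩
  add_mem' := fun {x y} hx hy => ⟨fun s hs => Submodule.add_mem _ (hx.1 s hs) (hy.1 s hs),
    fun s hs => by rw [Pi.add_apply, hx.2 s hs, hy.2 s hs, add_zero]⟩
  smul_mem' := fun c x hx => ⟨fun s hs => Submodule.smul_mem _ c (hx.1 s hs),
    fun s hs => by rw [Pi.smul_apply, hx.2 s hs, smul_zero]⟩

omit [LinearOrder ι] in
variable {gr} in
theorem mem_Fm {q : ℕ} {m : ℤ} {x : Finset ι → F} : x ∈ Fm gr q m ↔
    (∀ s : Finset ι, s.card = q → x s ∈ gr (m - q)) ∧ ∀ s : Finset ι, s.card ≠ q → x s = 0 :=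
  Iff.rfl

variable {gr}

omit [LinearOrder ι] in
theorem Fm_eq_zero [Fintype ι] {q : ℕ} {m : ℤ} (hq : Fintype.card ι < q) {x : Finset ι → F}
    (hx : x ∈ Fm gr q m) : x = 0 := by
  funext s
  refine hx.2 s fun hs => ?_
  have := s.card_le_univ
  omega

theorem ex_mem (i : ι) {q : ℕ} {m : ℤ} {x : Finset ι → F} (hx : x ∈ Fm gr q m) :
    ex i x ∈ Fm gr (q + 1) (m + 1) := by
  constructor
  · intro s hs
    by_cases h : i ∈ s
    · rw [ex_apply_of_mem h]
      have h1 : (s.erase i).card = q := by rw [card_erase_of_mem h, hs]; rfl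
      have h2 := hx.1 _ h1
      have h3 : m + 1 - ((q + 1 : ℕ) : ℤ) = m - q := by push_cast; ring
      rw [h3]
      exact zsmul_mem h2 _
    · rw [ex_apply_of_notMem h]
      exact Submodule.zero_mem _
  · intro s hs
    by_cases h : i ∈ s
    · rw [ex_apply_of_mem h, hx.2, smul_zero]
      rw [card_erase_of_mem h]
      have := card_pos.2 ⟨i, h⟩
      omega
    · rw [ex_apply_of_notMem h]

theorem co_mem (i : ι) {q : ℕ} {m : ℤ} {x : Finset ι → F} (hx : x ∈ Fm gr (q + 1) m) :
    co i x ∈ Fm gr q (m - 1) := by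
  constructor
  · intro s hs
    by_cases h : i ∈ s
    · rw [co_apply_of_mem h]
      exact Submodule.zero_mem _
    · rw [co_apply_of_notMem h]
      have h1 : (insert i s).card = q + 1 := by rw [card_insert_of_notMem h, hs]
      have h2 := hx.1 _ h1
      have h3 : m - 1 - (q : ℤ) = m - ((q + 1 : ℕ) : ℤ) := by push_cast; ring
      rw [h3]
      exact zsmul_mem h2 _
  · intro s hs
    by_cases h : i ∈ s
    · rw [co_apply_of_mem h]
    · rw [co_apply_of_notMem h, hx.2, smul_zero]
      rw [card_insert_of_notMem h]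
      omega

theorem co_zero_mem (i : ι) {m : ℤ} {x : Finset ι → F} (hx : x ∈ Fm gr 0 m) : co i x = 0 := by
  funext s
  by_cases h : i ∈ s
  · rw [co_apply_of_mem h]; rfl
  · rw [co_apply_of_notMem h, hx.2, smul_zero]
    · rfl
    · rw [card_insert_of_notMem h]
      omega

omit [LinearOrder ι] in
theorem smul_mem (hmul : ∀ {a b : ℤ} {x y : F}, x ∈ gr a → y ∈ gr b → x * y ∈ gr (a + b))
    {c : F} {e : ℤ} (hc : c ∈ gr e) {q : ℕ} {m : ℤ} {x : Finset ι → F} (hx : x ∈ Fm gr q m) :
    c • x ∈ Fm gr q (e + m) := by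
  constructor
  · intro s hs
    rw [Pi.smul_apply, smul_eq_mul, add_sub_assoc]
    exact hmul hc (hx.1 s hs)
  · intro s hs
    rw [Pi.smul_apply, hx.2 s hs, smul_zero]

variable [Fintype ι]

theorem D_mem (hmul : ∀ {a b : ℤ} {x y : F}, x ∈ gr a → y ∈ gr b → x * y ∈ gr (a + b))
    {v : ι → F} {e : ℤ} (hv : ∀ i, v i ∈ gr e) {q : ℕ} {m m' : ℤ} (hm : m' = m + e + 1)
    {x : Finset ι → F} (hx : x ∈ Fm gr q m) : D v x ∈ Fm gr (q + 1) m' := by
  rw [D_apply]
  refine Submodule.sum_mem _ fun i _ => ?_
  have := smul_mem hmul (hv i) (ex_mem i hx)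
  rwa [show e + (m + 1) = m' by rw [hm]; ring] at this

theorem K_mem (hmul : ∀ {a b : ℤ} {x y : F}, x ∈ gr a → y ∈ gr b → x * y ∈ gr (a + b))
    {w : ι → F} {e : ℤ} (hw : ∀ i, w i ∈ gr e) {q : ℕ} {m m' : ℤ} (hm : m' = m + e - 1)
    {x : Finset ι → F} (hx : x ∈ Fm gr (q + 1) m) : K w x ∈ Fm gr q m' := by
  rw [K_apply]
  refine Submodule.sum_mem _ fun i _ => ?_
  have := smul_mem hmul (hw i) (co_mem i hx)
  rwa [show e + (m - 1) = m' by rw [hm]; ring] at this

theorem K_zero_mem {w : ι → F} {m : ℤ} {x : Finset ι → F} (hx : x ∈ Fm gr 0 m) : K w x = 0 := by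
  rw [K_apply]
  refine Finset.sum_eq_zero fun i _ => ?_
  rw [co_zero_mem i hx, smul_zero]

end Deg

end Groth.Agent.Lefpen.H722.Forms
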