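import Groth.Agent.Lefpen.H722.Sys
import Groth.Agent.Lefpen.H722.Forms
import Mathlib.Algebra.Algebra.Pi

/-!
# Systems of forms attached to a graded system of rings

`GSys`: a system of graded rings `F I` (`I ⊆ ι`), coordinates `T i` of degree one, invertible for `i ∈ I`, and covectors `v j`
(the differentials of the equations), unimodular on nonempty `I`.  The systems
* `O m`: the elements of degree `m`;
* `N e q m`: forms of form degree `q` and total degree `m` killed by `v 0 ∧`, …, `v (e-1) ∧`;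
* `Z q m`: the forms in `N d q m` killed by the contraction with the Euler vector field;
and the exact sequences `0 → N (e+1) q m → N e q m → N (e+1) (q+1) (m + a e) → 0`,
`0 → Z (q+1) m → N d (q+1) m → Z q m → 0`.
-/

set_option autoImplicit false
set_option linter.dupNamespace false
set_option linter.unusedSectionVars false
set_option linter.unusedVariables false
universe u

open Finset

namespace Groth.Agent.Lefpen.H722.GSys

open Groth.Agent.Lefpen.H722.Sys Groth.Agent.Lefpen.H722.Forms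

/-- A graded system of rings with equations. -/
structure GSys (k : Type u) [CommRing k] (ι : Type) [Fintype ι] where
  /-- the rings -/
  F : Set ι → Type u
  [cr : ∀ I, CommRing (F I)]
  [al : ∀ I, Algebra k (F I)]
  /-- restriction -/
  ρ : ∀ {I J : Set ι}, I ⊆ J → F I →ₐ[k] F J
  ρ_ρ : ∀ {I J K : Set ι} (h : I ⊆ J) (h' : J ⊆ K) (x : F I), ρ h' (ρ h x) = ρ (h.trans h') x
  /-- degrees -/
  gr : ∀ I, ℤ → Submodule k (F I)
  mul_mem : ∀ {I : Set ι} {a b : ℤ} {x y : F I}, x ∈ gr I a → y ∈ gr I b → x * y ∈ gr I (a + b)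
  ρ_mem : ∀ {I J : Set ι} (h : I ⊆ J) {a : ℤ} {x : F I}, x ∈ gr I a → ρ h x ∈ gr J a
  /-- coordinates -/
  T : ∀ I, ι → F I
  T_mem : ∀ I i, T I i ∈ gr I 1
  ρ_T : ∀ {I J : Set ι} (h : I ⊆ J) (i : ι), ρ h (T I i) = T J i
  T_inv : ∀ I, ∀ i ∈ I, ∃ t ∈ gr I (-1), T I i * t = 1
  /-- the degrees of the equations -/
  a : ℕ → ℤ
  /-- the differentials of the equations -/
  v : ∀ I, ℕ → ι → F I
  v_mem : ∀ I j i, v I j i ∈ gr I (a j - 1)
  ρ_v : ∀ {I J : Set ι} (h : I ⊆ J) (j : ℕ) (i : ι), ρ h (v I j i) = v J j i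
  euler : ∀ I j, ∑ i, v I j i * T I i = 0
  /-- the number of equations -/
  d : ℕ
  exists_Φ : ∀ I : Set ι, I.Nonempty → ∃ Φ : ℕ → ι → F I, (∀ j i, Φ j i ∈ gr I (1 - a j)) ∧
    ∀ l j, l < d → j < d → ∑ i, v I l i * Φ j i = if l = j then 1 else 0

attribute [instance] GSys.cr GSys.al

variable {k : Type u} [CommRing k] {ι : Type} [LinearOrder ι] [Fintype ι] (𝔊 : GSys k ι)

omit [LinearOrder ι] in
/-- The system of elements of degree `m`. -/
def O (m : ℤ) : Sys k ι where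
  M I := 𝔊.gr I m
  res {I J} h :=
    { toFun := fun x => ⟨𝔊.ρ h x.1, 𝔊.ρ_mem h x.2⟩
      map_add' := fun x y => Subtype.ext (map_add (𝔊.ρ h) x.1 y.1)
      map_smul' := fun c x => Subtype.ext (map_smul (𝔊.ρ h) c x.1) }
  res_res h h' x := Subtype.ext (𝔊.ρ_ρ h h' x.1)

section Sub

variable {F : Type u} [CommRing F] [Algebra k F] (gr : ℤ → Submodule k F) (v : ℕ → ι → F)

/-- Forms killed by `v 0 ∧`, …, `v (e-1) ∧`. -/
def Nsub (e q : ℕ) (m : ℤ) : Submodule k (Finset ι → F) where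
  carrier := {x | x ∈ Fm gr q m ∧ ∀ j < e, D (v j) x = 0}
  zero_mem' := ⟨Submodule.zero_mem _, fun _ _ => map_zero _⟩
  add_mem' := fun {x y} hx hy => ⟨Submodule.add_mem _ hx.1 hy.1, fun j hj => by
    rw [map_add, hx.2 j hj, hy.2 j hj, add_zero]⟩
  smul_mem' := fun c x hx => ⟨Submodule.smul_mem _ c hx.1, fun j hj => by
    rw [LinearMap.map_smul_of_tower, hx.2 j hj, smul_zero]⟩

/-- Forms in `Nsub` killed by the contraction with `w`. -/
def Zsub (w : ι → F) (e q : ℕ) (m : ℤ) : Submodule k (Finset ι → F) where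
  carrier := {x | x ∈ Nsub gr v e q m ∧ K w x = 0}
  zero_mem' := ⟨Submodule.zero_mem _, map_zero _⟩
  add_mem' := fun {x y} hx hy => ⟨Submodule.add_mem _ hx.1 hy.1, by
    rw [map_add, hx.2, hy.2, add_zero]⟩
  smul_mem' := fun c x hx => ⟨Submodule.smul_mem _ c hx.1, by
    rw [LinearMap.map_smul_of_tower, hx.2, smul_zero]⟩

end Sub

theorem mapF_mem_Fm {I J : Set ι} (h : I ⊆ J) {q : ℕ} {m : ℤ} {x : Finset ι → 𝔊.F I}
    (hx : x ∈ Fm (𝔊.gr I) q m) : mapF (𝔊.ρ h).toRingHom x ∈ Fm (𝔊.gr J) q m :=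
  ⟨fun s hs => 𝔊.ρ_mem h (hx.1 s hs), fun s hs => by
    rw [mapF_apply, hx.2 s hs, map_zero]⟩

theorem mapF_D' {I J : Set ι} (h : I ⊆ J) (j : ℕ) (x : Finset ι → 𝔊.F I) :
    mapF (𝔊.ρ h).toRingHom (D (𝔊.v I j) x) = D (𝔊.v J j) (mapF (𝔊.ρ h).toRingHom x) := by
  rw [mapF_D]
  congr 2
  funext i
  exact 𝔊.ρ_v h j i

theorem mapF_K' {I J : Set ι} (h : I ⊆ J) (x : Finset ι → 𝔊.F I) :
    mapF (𝔊.ρ h).toRingHom (K (𝔊.T I) x) = K (𝔊.T J) (mapF (𝔊.ρ h).toRingHom x) := by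
  rw [mapF_K]
  congr 2
  funext i
  exact 𝔊.ρ_T h i

theorem mapF_zero {F F' : Type u} [CommRing F] [CommRing F'] (ρ : F →+* F') :
    mapF ρ (0 : Finset ι → F) = 0 := by
  funext s
  exact map_zero ρ

theorem mapF_mem_Nsub {I J : Set ι} (h : I ⊆ J) {e q : ℕ} {m : ℤ} {x : Finset ι → 𝔊.F I}
    (hx : x ∈ Nsub (𝔊.gr I) (𝔊.v I) e q m) :
    mapF (𝔊.ρ h).toRingHom x ∈ Nsub (𝔊.gr J) (𝔊.v J) e q m :=
  ⟨mapF_mem_Fm 𝔊 h hx.1, fun j hj => by rw [← mapF_D', hx.2 j hj, mapF_zero]⟩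

theorem mapF_mem_Zsub {I J : Set ι} (h : I ⊆ J) {e q : ℕ} {m : ℤ} {x : Finset ι → 𝔊.F I}
    (hx : x ∈ Zsub (𝔊.gr I) (𝔊.v I) (𝔊.T I) e q m) :
    mapF (𝔊.ρ h).toRingHom x ∈ Zsub (𝔊.gr J) (𝔊.v J) (𝔊.T J) e q m :=
  ⟨mapF_mem_Nsub 𝔊 h hx.1, by rw [← mapF_K', hx.2, mapF_zero]⟩

theorem mapF_mapF {I J L : Set ι} (h : I ⊆ J) (h' : J ⊆ L) (x : Finset ι → 𝔊.F I) :
    mapF (𝔊.ρ h').toRingHom (mapF (𝔊.ρ h).toRingHom x) = mapF (𝔊.ρ (h.trans h')).toRingHom x := by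
  funext s
  exact 𝔊.ρ_ρ h h' (x s)

theorem mapF_add {F F' : Type u} [CommRing F] [CommRing F'] (ρ : F →+* F') (x y : Finset ι → F) :
    mapF ρ (x + y) = mapF ρ x + mapF ρ y := by
  funext s
  exact map_add ρ _ _

theorem mapF_smul {I J : Set ι} (h : I ⊆ J) (c : k) (x : Finset ι → 𝔊.F I) :
    mapF (𝔊.ρ h).toRingHom (c • x) = c • mapF (𝔊.ρ h).toRingHom x := by
  funext s
  exact map_smul (𝔊.ρ h) c (x s)

/-- The system of forms killed by the first `e` differentials. -/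
def N (e q : ℕ) (m : ℤ) : Sys k ι where
  M I := Nsub (𝔊.gr I) (𝔊.v I) e q m
  res {I J} h :=
    { toFun := fun x => ⟨mapF (𝔊.ρ h).toRingHom x.1, mapF_mem_Nsub 𝔊 h x.2⟩
      map_add' := fun x y => Subtype.ext (mapF_add _ x.1 y.1)
      map_smul' := fun c x => Subtype.ext (mapF_smul 𝔊 h c x.1) }
  res_res h h' x := Subtype.ext (mapF_mapF 𝔊 h h' x.1)

/-- The system of forms on the base (killed by the Euler contraction). -/
def Z (q : ℕ) (m : ℤ) : Sys k ι where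
  M I := Zsub (𝔊.gr I) (𝔊.v I) (𝔊.T I) 𝔊.d q m
  res {I J} h :=
    { toFun := fun x => ⟨mapF (𝔊.ρ h).toRingHom x.1, mapF_mem_Zsub 𝔊 h x.2⟩
      map_add' := fun x y => Subtype.ext (mapF_add _ x.1 y.1)
      map_smul' := fun c x => Subtype.ext (mapF_smul 𝔊 h c x.1) }
  res_res h h' x := Subtype.ext (mapF_mapF 𝔊 h h' x.1)

theorem D_mem_Nsub {I : Set ι} {e q : ℕ} {m m' : ℤ} (hm : m' = m + 𝔊.a e) {x : Finset ι → 𝔊.F I}
    (hx : x ∈ Nsub (𝔊.gr I) (𝔊.v I) e q m) :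
    D (𝔊.v I e) x ∈ Nsub (𝔊.gr I) (𝔊.v I) (e + 1) (q + 1) m' := by
  refine ⟨D_mem 𝔊.mul_mem (𝔊.v_mem I e) (by rw [hm]; ring) hx.1, fun j hj => ?_⟩
  rcases Nat.lt_succ_iff_lt_or_eq.1 hj with hj | rfl
  · rw [D_eq_neg, hx.2 j hj, map_zero, neg_zero]
  · rw [D_D_self]

/-- The inclusion `N (e+1) q m → N e q m`. -/
def inclN (e q : ℕ) (m : ℤ) : Hom (N 𝔊 (e + 1) q m) (N 𝔊 e q m) where
  app I :=
    { toFun := fun x => ⟨x.1, x.2.1, fun j hj => x.2.2 j (Nat.lt_succ_of_lt hj)⟩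
      map_add' := fun _ _ => rfl
      map_smul' := fun _ _ => rfl }
  nat _ _ := rfl

/-- Exterior multiplication with the differential of the equation number `e`. -/
def DN (e q : ℕ) (m m' : ℤ) (hm : m' = m + 𝔊.a e) : Hom (N 𝔊 e q m) (N 𝔊 (e + 1) (q + 1) m') where
  app I :=
    { toFun := fun x => ⟨D (𝔊.v I e) x.1, D_mem_Nsub 𝔊 hm x.2⟩
      map_add' := fun x y => Subtype.ext (map_add (D (𝔊.v I e)) x.1 y.1)
      map_smul' := fun c x => Subtype.ext (LinearMap.map_smul_of_tower (D (𝔊.v I e)) c x.1) }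
  nat h x := Subtype.ext (mapF_D' 𝔊 h e x.1).symm

theorem isSES_N (e q : ℕ) (m m' : ℤ) (hm : m' = m + 𝔊.a e) (he : e < 𝔊.d) :
    IsSES (inclN 𝔊 e q m) (DN 𝔊 e q m m' hm) where
  inj I _ x y h := by
    have h1 := congrArg Subtype.val h
    exact Subtype.ext h1
  exact I _ x := by
    constructor
    · intro h
      exact ⟨⟨x.1, x.2.1, fun j hj => by
        rcases Nat.lt_succ_iff_lt_or_eq.1 hj with hj | rfl
        · exact x.2.2 j hj
        · exact congrArg Subtype.val h⟩, rfl⟩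
    · rintro ⟨y, rfl⟩
      exact Subtype.ext (y.2.2 e (Nat.lt_succ_self e))
  surj I hI z := by
    obtain ⟨Φ, hΦ, hΦv⟩ := 𝔊.exists_Φ I hI
    have hD : ∀ j ≤ e, D (𝔊.v I j) (K (Φ e) z.1) = if j = e then z.1 else 0 := by
      intro j hj
      rw [D_K_eq, hΦv j e (by omega) he, z.2.2 j (Nat.lt_succ_of_le hj), map_zero, sub_zero]
      split_ifs
      · rw [one_smul]
      · rw [zero_smul]
    refine ⟨⟨K (Φ e) z.1, K_mem 𝔊.mul_mem (hΦ e) (by rw [hm]; ring) z.2.1, fun j hj => ?_⟩, ?_⟩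
    · rw [hD j hj.le, if_neg hj.ne]
    · apply Subtype.ext
      change D (𝔊.v I e) (K (Φ e) z.1) = z.1
      rw [hD e le_rfl, if_pos rfl]

/-- The inclusion `Z q m → N d q m`. -/
def inclZ (q : ℕ) (m : ℤ) : Hom (Z 𝔊 q m) (N 𝔊 𝔊.d q m) where
  app I :=
    { toFun := fun x => ⟨x.1, x.2.1⟩
      map_add' := fun _ _ => rfl
      map_smul' := fun _ _ => rfl }
  nat _ _ := rfl

theorem K_mem_Zsub {I : Set ι} {q : ℕ} {m : ℤ} {x : Finset ι → 𝔊.F I}
    (hx : x ∈ Nsub (𝔊.gr I) (𝔊.v I) 𝔊.d (q + 1) m) :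
    K (𝔊.T I) x ∈ Zsub (𝔊.gr I) (𝔊.v I) (𝔊.T I) 𝔊.d q m := by
  refine ⟨⟨K_mem 𝔊.mul_mem (𝔊.T_mem I) (by ring) hx.1, fun j hj => ?_⟩, K_K_self _ _⟩
  rw [D_K_eq, 𝔊.euler, zero_smul, hx.2 j hj, map_zero, sub_zero]

/-- Contraction with the Euler vector field. -/
def KN (q : ℕ) (m : ℤ) : Hom (N 𝔊 𝔊.d (q + 1) m) (Z 𝔊 q m) where
  app I :=
    { toFun := fun x => ⟨K (𝔊.T I) x.1, K_mem_Zsub 𝔊 x.2⟩
      map_add' := fun x y => Subtype.ext (map_add (K (𝔊.T I)) x.1 y.1)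
      map_smul' := fun c x => Subtype.ext (LinearMap.map_smul_of_tower (K (𝔊.T I)) c x.1) }
  nat h x := Subtype.ext (mapF_K' 𝔊 h x.1).symm

/-- On a nonempty `I` there is a covector `τ` of degree `-1` with `⟨τ, Euler⟩ = 1`. -/
theorem exists_τ {I : Set ι} (hI : I.Nonempty) :
    ∃ τ : ι → 𝔊.F I, (∀ i, τ i ∈ 𝔊.gr I (-1)) ∧ ∑ i, τ i * 𝔊.T I i = 1 := by
  obtain ⟨i, hi⟩ := hI
  obtain ⟨t, ht, h1⟩ := 𝔊.T_inv I i hi
  refine ⟨Pi.single i t, fun j => ?_, ?_⟩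
  · by_cases h : j = i
    · subst h
      rw [Pi.single_eq_same]
      exact ht
    · rw [Pi.single_eq_of_ne h]
      exact Submodule.zero_mem _
  · rw [Finset.sum_eq_single i]
    · rw [Pi.single_eq_same, mul_comm, h1]
    · intro j _ hj
      rw [Pi.single_eq_of_ne hj, zero_mul]
    · intro h
      exact absurd (mem_univ _) h

theorem isSES_Z (q : ℕ) (m : ℤ) : IsSES (inclZ 𝔊 (q + 1) m) (KN 𝔊 q m) where
  inj I _ x y h := by
    have h1 := congrArg Subtype.val h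
    exact Subtype.ext h1
  exact I _ x := by
    constructor
    · intro h
      exact ⟨⟨x.1, x.2, congrArg Subtype.val h⟩, rfl⟩
    · rintro ⟨y, rfl⟩
      exact Subtype.ext y.2.2
  surj I hI z := by
    obtain ⟨τ, hτ, hτ1⟩ := exists_τ 𝔊 hI
    refine ⟨⟨D τ z.1, D_mem 𝔊.mul_mem hτ (by ring) z.2.1.1, fun j hj => ?_⟩, ?_⟩
    · rw [D_eq_neg, z.2.1.2 j hj, map_zero, neg_zero]
    · apply Subtype.ext
      change K (𝔊.T I) (D τ z.1) = z.1
      rw [K_D_eq, hτ1, one_smul, z.2.2, map_zero, sub_zero]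

/-! ### Extreme degrees -/

theorem subsingleton_H_of_forall {V : Sys k ι}
    (h : ∀ I : Set ι, I.Nonempty → Subsingleton (V.M I)) (p : ℕ) : Subsingleton (H V p) := by
  have h1 : ∀ q, Subsingleton (C V q) := fun q => by
    have := fun σ : Fin (q + 1) → ι => h _ (Set.range_nonempty σ)
    infer_instance
  cases p with
  | zero =>
    refine (h0Equiv V).symm.toEquiv.subsingleton_congr.2 ?_
    have := h1 0
    infer_instance
  | succ p =>
    rw [subsingleton_iff_exact]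
    intro s _
    exact ⟨0, (h1 (p + 1)).elim _ _⟩

/-- A form of degree `q < e` killed by `v 0`, …, `v (e-1)` vanishes. -/
theorem eq_zero_of_lt {I : Set ι} (hI : I.Nonempty) :
    ∀ (e : ℕ), e ≤ 𝔊.d → ∀ (q : ℕ) (m : ℤ) (x : Finset ι → 𝔊.F I), q < e →
      x ∈ Nsub (𝔊.gr I) (𝔊.v I) e q m → x = 0 := by
  obtain ⟨Φ, hΦ, hΦv⟩ := 𝔊.exists_Φ I hI
  intro e
  induction e with
  | zero => intro _ q m x hq; omega
  | succ e ih =>
    intro he q m x hq hx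
    have h1 : x = D (𝔊.v I e) (K (Φ e) x) := by
      rw [D_K_eq, hΦv e e (by omega) (by omega), if_pos rfl, one_smul, hx.2 e (Nat.lt_succ_self e),
        map_zero, sub_zero]
    rcases Nat.eq_zero_or_pos q with rfl | hq0
    · rw [h1, K_zero_mem hx.1, map_zero]
    · obtain ⟨q, rfl⟩ : ∃ q', q = q' + 1 := ⟨q - 1, by omega⟩
      have h2 : K (Φ e) x = 0 := by
        refine ih (by omega) q (m + (1 - 𝔊.a e) - 1) _ (by omega)
          ⟨K_mem 𝔊.mul_mem (hΦ e) rfl hx.1, fun j hj => ?_⟩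
        rw [D_K_eq, hΦv j e (by omega) (by omega), if_neg (by omega), zero_smul,
          hx.2 j (by omega), map_zero, sub_zero]
      rw [h1, h2, map_zero]

theorem subsingleton_N_of_lt (e q : ℕ) (m : ℤ) (he : e ≤ 𝔊.d) (hq : q < e) (p : ℕ) :
    Subsingleton (H (N 𝔊 e q m) p) :=
  subsingleton_H_of_forall (V := N 𝔊 e q m) (fun _ hI => ⟨fun x y => Subtype.ext
    ((eq_zero_of_lt 𝔊 hI e he q m x.1 hq x.2).trans
      (eq_zero_of_lt 𝔊 hI e he q m y.1 hq y.2).symm)⟩) p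

theorem subsingleton_N_of_card_lt (e q : ℕ) (m : ℤ) (hq : Fintype.card ι < q) (p : ℕ) :
    Subsingleton (H (N 𝔊 e q m) p) :=
  subsingleton_H_of_forall (V := N 𝔊 e q m) (fun _ _ => ⟨fun x y => Subtype.ext
    ((Fm_eq_zero hq x.2.1).trans (Fm_eq_zero hq y.2.1).symm)⟩) p

/-- `Z q m = 0` for `q ≥ card ι`. -/
theorem Z_eq_zero {I : Set ι} (hI : I.Nonempty) {q : ℕ} {m : ℤ} (hq : Fintype.card ι ≤ q)
    {x : Finset ι → 𝔊.F I} (hx : x ∈ Zsub (𝔊.gr I) (𝔊.v I) (𝔊.T I) 𝔊.d q m) : x = 0 := by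
  obtain ⟨τ, hτ, hτ1⟩ := exists_τ 𝔊 hI
  have h1 : x = K (𝔊.T I) (D τ x) := by
    rw [K_D_eq, hτ1, one_smul, hx.2, map_zero, sub_zero]
  have h2 : D τ x = 0 := Fm_eq_zero (q := q + 1) (m := m - 1 + 1) (by omega)
    (D_mem 𝔊.mul_mem hτ (by ring) hx.1.1)
  rw [h1, h2, map_zero]

theorem subsingleton_Z_of_card_le (q : ℕ) (m : ℤ) (hq : Fintype.card ι ≤ q) (p : ℕ) :
    Subsingleton (H (Z 𝔊 q m) p) :=
  subsingleton_H_of_forall (V := Z 𝔊 q m) (fun _ hI => ⟨fun x y => Subtype.ext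
    ((Z_eq_zero 𝔊 hI hq x.2).trans (Z_eq_zero 𝔊 hI hq y.2).symm)⟩) p

/-- `Z q m = N d q m` for `q = d`. -/
theorem Z_eq_N {I : Set ι} (hI : I.Nonempty) {q : ℕ} {m : ℤ} (hq : q ≤ 𝔊.d)
    {x : Finset ι → 𝔊.F I} (hx : x ∈ Nsub (𝔊.gr I) (𝔊.v I) 𝔊.d q m) :
    x ∈ Zsub (𝔊.gr I) (𝔊.v I) (𝔊.T I) 𝔊.d q m := by
  refine ⟨hx, ?_⟩
  rcases Nat.eq_zero_or_pos q with rfl | hq0
  · exact K_zero_mem hx.1
  · obtain ⟨q, rfl⟩ : ∃ q', q = q' + 1 := ⟨q - 1, by omega⟩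
    exact eq_zero_of_lt 𝔊 hI 𝔊.d le_rfl q m _ (by omega) (K_mem_Zsub 𝔊 hx).1

/-- `H (Z d m) ≃ H (N d d m)`. -/
theorem nonempty_Z_equiv_N (q : ℕ) (m : ℤ) (hq : q ≤ 𝔊.d) (p : ℕ) :
    Nonempty (H (Z 𝔊 q m) p ≃ₗ[k] H (N 𝔊 𝔊.d q m) p) :=
  nonempty_equiv_of_bijective (inclZ 𝔊 q m) (fun _ hI =>
    ⟨fun x y h => by
        have h1 := congrArg Subtype.val h
        exact Subtype.ext h1,
      fun x => ⟨⟨x.1, Z_eq_N 𝔊 hI hq x.2⟩, rfl⟩⟩) p

/-- The map `O m → N 0 0 m`. -/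
def O0 (m : ℤ) : Hom (O 𝔊 m) (N 𝔊 0 0 m) where
  app I :=
    { toFun := fun x => ⟨fun s => if s = ∅ then x.1 else 0, ⟨fun s hs => by
          have h1 : (if s = ∅ then x.1 else 0) = x.1 := if_pos (card_eq_zero.1 hs)
          change (if s = ∅ then x.1 else 0) ∈ 𝔊.gr I (m - (0 : ℕ))
          rw [h1, Nat.cast_zero, sub_zero]
          exact x.2, fun s hs => if_neg fun h => hs (by rw [h]; rfl)⟩, fun j hj =>
            absurd hj (Nat.not_lt_zero j)⟩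
      map_add' := fun x y => Subtype.ext (by
        funext s
        change (if s = ∅ then x.1 + y.1 else 0) = (if s = ∅ then x.1 else 0) + (if s = ∅ then y.1 else 0)
        split_ifs
        · rfl
        · rw [add_zero])
      map_smul' := fun c x => Subtype.ext (by
        funext s
        change (if s = ∅ then c • x.1 else 0) = c • (if s = ∅ then x.1 else 0)
        split_ifs
        · rfl
        · rw [smul_zero]) }
  nat h x := Subtype.ext (by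
    funext s
    change (if s = ∅ then 𝔊.ρ h x.1 else 0) = 𝔊.ρ h (if s = ∅ then x.1 else 0)
    split_ifs
    · rfl
    · rw [map_zero])

theorem nonempty_O0 (m : ℤ) (p : ℕ) : Nonempty (H (O 𝔊 m) p ≃ₗ[k] H (N 𝔊 0 0 m) p) :=
  nonempty_equiv_of_bijective (O0 𝔊 m) (fun I _ => by
    constructor
    · intro x y h
      apply Subtype.ext
      have h1 := congrFun (congrArg Subtype.val h) ∅
      change (if (∅ : Finset ι) = ∅ then x.1 else 0) = (if (∅ : Finset ι) = ∅ then y.1 else 0) at h1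
      rwa [if_pos rfl, if_pos rfl] at h1
    · intro y
      refine ⟨⟨y.1 ∅, by simpa using y.2.1.1 ∅ rfl⟩, ?_⟩
      apply Subtype.ext
      funext s
      change (if s = ∅ then y.1 ∅ else 0) = y.1 s
      split_ifs with h
      · rw [h]
      · rw [y.2.1.2 s (fun h' => h (card_eq_zero.1 h'))]) p

/-- `N e e (m + a 0 + ⋯ + a (e-1))` has the cohomology of `O m`. -/
theorem nonempty_diag (e : ℕ) (he : e ≤ 𝔊.d) (m : ℤ) (p : ℕ) :
    Nonempty (H (O 𝔊 m) p ≃ₗ[k] H (N 𝔊 e e (m + ∑ j ∈ range e, 𝔊.a j)) p) := by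
  induction e with
  | zero =>
    obtain ⟨e⟩ := nonempty_O0 𝔊 m p
    rw [range_zero, sum_empty, add_zero]
    exact ⟨e⟩
  | succ e ih =>
    obtain ⟨f⟩ := ih (by omega)
    obtain ⟨g⟩ := nonempty_equiv_right (isSES_N 𝔊 e e (m + ∑ j ∈ range e, 𝔊.a j)
      (m + ∑ j ∈ range (e + 1), 𝔊.a j) (by rw [sum_range_succ]; ring) (by omega)) p
      (subsingleton_N_of_lt 𝔊 (e + 1) e _ he (Nat.lt_succ_self e) p)
      (subsingleton_N_of_lt 𝔊 (e + 1) e _ he (Nat.lt_succ_self e) (p + 1))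
    exact ⟨f.trans g⟩

/-- The map `N e r m → ∏ O (m - q)`, `x ↦ (x s)`, from forms to their coordinates (`e = 0`). -/
def coord (q : ℕ) (m : ℤ) : Hom (N 𝔊 0 q m)
    (pi (κ := {s : Finset ι // s.card = q}) (fun _ => O 𝔊 (m - q))) where
  app I :=
    { toFun := fun x s => ⟨x.1 s.1, x.2.1.1 s.1 s.2⟩
      map_add' := fun _ _ => rfl
      map_smul' := fun _ _ => rfl }
  nat _ _ := rfl

theorem nonempty_coord (q : ℕ) (m : ℤ) (p : ℕ) :
    Nonempty (H (N 𝔊 0 q m) p ≃ₗ[k]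
      H (pi (κ := {s : Finset ι // s.card = q}) (fun _ => O 𝔊 (m - q))) p) :=
  nonempty_equiv_of_bijective (coord 𝔊 q m) (fun I _ => by
    constructor
    · intro x y h
      apply Subtype.ext
      funext s
      by_cases hs : s.card = q
      · exact congrArg Subtype.val (congrFun h ⟨s, hs⟩)
      · rw [x.2.1.2 s hs, y.2.1.2 s hs]
    · intro y
      refine ⟨⟨fun s => if hs : s.card = q then (y ⟨s, hs⟩).1 else 0, ⟨fun s hs => ?_,
        fun s hs => dif_neg hs⟩, fun j hj => absurd hj (Nat.not_lt_zero j)⟩, ?_⟩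
      · change (if hs : s.card = q then (y ⟨s, hs⟩).1 else 0) ∈ 𝔊.gr I (m - q)
        rw [dif_pos hs]
        exact (y ⟨s, hs⟩).2
      · funext s
        apply Subtype.ext
        change (if hs : s.1.card = q then (y ⟨s.1, hs⟩).1 else 0) = (y s).1
        rw [dif_pos s.2]) p

theorem subsingleton_N0 (q : ℕ) (m : ℤ) (p : ℕ) (h : Subsingleton (H (O 𝔊 (m - q)) p)) :
    Subsingleton (H (N 𝔊 0 q m) p) := by
  obtain ⟨e⟩ := nonempty_coord 𝔊 q m p
  have := subsingleton_pi (κ := {s : Finset ι // s.card = q}) (fun _ => O 𝔊 (m - q)) p fun _ => h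
  exact e.toEquiv.subsingleton

/-- Top forms: evaluation at `univ`. -/
def topN (e q : ℕ) (hq : Fintype.card ι = q) (m m' : ℤ) (hm : m' = m - q) :
    Hom (N 𝔊 e q m) (O 𝔊 m') where
  app I :=
    { toFun := fun x => ⟨x.1 univ, by
        rw [hm]
        exact x.2.1.1 univ hq⟩
      map_add' := fun _ _ => rfl
      map_smul' := fun _ _ => rfl }
  nat _ _ := rfl

theorem nonempty_topN (e q : ℕ) (hq : Fintype.card ι = q) (m m' : ℤ) (hm : m' = m - q) (p : ℕ) :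
    Nonempty (H (N 𝔊 e q m) p ≃ₗ[k] H (O 𝔊 m') p) :=
  nonempty_equiv_of_bijective (topN 𝔊 e q hq m m' hm) (fun I _ => by
    constructor
    · intro x y h
      apply Subtype.ext
      funext s
      by_cases hs : s = univ
      · rw [hs]
        exact congrArg Subtype.val h
      · have h1 : s.card ≠ q := fun h1 => hs ((card_eq_iff_eq_univ s).1 (h1.trans hq.symm))
        rw [x.2.1.2 s h1, y.2.1.2 s h1]
    · intro y
      have hmem : (fun s : Finset ι => if s = univ then y.1 else 0) ∈ Fm (𝔊.gr I) q m := by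
        refine ⟨fun s hs => ?_, fun s hs => if_neg fun h => hs (by rw [h]; exact hq)⟩
        change (if s = univ then y.1 else 0) ∈ 𝔊.gr I (m - q)
        rw [if_pos ((card_eq_iff_eq_univ s).1 (hs.trans hq.symm)), ← hm]
        exact y.2
      refine ⟨⟨fun s => if s = univ then y.1 else 0, hmem, fun j _ => ?_⟩, ?_⟩
      · exact Fm_eq_zero (q := q + 1) (by omega) (D_mem 𝔊.mul_mem (𝔊.v_mem I j) rfl hmem)
      · apply Subtype.ext
        change (if (univ : Finset ι) = univ then y.1 else 0) = y.1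
        rw [if_pos rfl]) p

/-- `H (Z r m) ≃ H (O (m - r - 1))` for `r + 1 = card ι`. -/
theorem nonempty_topZ (r : ℕ) (hr : Fintype.card ι = r + 1) (m m' : ℤ) (hm : m' = m - (r + 1)) (p : ℕ) :
    Nonempty (H (Z 𝔊 r m) p ≃ₗ[k] H (O 𝔊 m') p) := by
  obtain ⟨e⟩ := nonempty_topN 𝔊 𝔊.d (r + 1) hr m m' (by rw [hm]; push_cast; ring) p
  obtain ⟨f⟩ := nonempty_equiv_right (isSES_Z 𝔊 r m) p
    (subsingleton_Z_of_card_le 𝔊 (r + 1) m hr.le p)
    (subsingleton_Z_of_card_le 𝔊 (r + 1) m hr.le (p + 1))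
  exact ⟨f.symm.trans e⟩

end Groth.Agent.Lefpen.H722.GSys
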