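import Groth.Agent.Lefpen.H722.Sys

/-!
# Comparison of systems on nonempty subsets

`nonempty_equiv_of_nat`: isomorphisms `V.M I ≃ W.M I` for `I` nonempty, compatible with restriction, induce
isomorphisms on cohomology.
-/

set_option autoImplicit false
universe u

namespace Groth.Agent.Lefpen.H722.Glue

open Groth.Agent.Lefpen.H722.Sys

variable {k : Type u} [CommRing k] {ι : Type}

/-- Elements which vanish if `I = ∅`. -/
def plusSub (V : Sys k ι) (I : Set ι) : Submodule k (V.M I) where
  carrier := {x | ¬ I.Nonempty → x = 0}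
  zero_mem' := fun _ => rfl
  add_mem' := fun hx hy h => by rw [hx h, hy h, add_zero]
  smul_mem' := fun c _ hx h => by rw [hx h, smul_zero]

/-- The truncation of a system at `∅`. -/
def plus (V : Sys k ι) : Sys k ι where
  M I := plusSub V I
  res {I J} h := (V.res h).restrict (p := plusSub V I) (q := plusSub V J) fun x hx hJ => by
    rw [hx fun h' => hJ (h'.mono h), map_zero]
  res_res h h' x := Subtype.ext (V.res_res h h' x.1)

/-- The inclusion of the truncation. -/
def plusHom (V : Sys k ι) : Hom (plus V) V where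
  app I := (plusSub V I).subtype
  nat _ _ := rfl

open Classical in
/-- The morphism from the truncation defined by a family on nonempty subsets. -/
noncomputable def homOf {V W : Sys k ι} (e : ∀ I : Set ι, I.Nonempty → (V.M I →ₗ[k] W.M I))
    (he : ∀ (I J : Set ι) (hI : I.Nonempty) (h : I ⊆ J) (x : V.M I),
      e J (hI.mono h) (V.res h x) = W.res h (e I hI x)) : Hom (plus V) W where
  app I := if h : I.Nonempty then e I h ∘ₗ (plusSub V I).subtype else 0
  nat {I J} h x := by
    by_cases hI : I.Nonempty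
    · rw [dif_pos hI, dif_pos (hI.mono h)]
      exact he I J hI h x.1
    · have hx : x = 0 := Subtype.ext (x.2 hI)
      rw [hx, map_zero, map_zero, map_zero, map_zero]

theorem homOf_app {V W : Sys k ι} (e : ∀ I : Set ι, I.Nonempty → (V.M I →ₗ[k] W.M I))
    (he : ∀ (I J : Set ι) (hI : I.Nonempty) (h : I ⊆ J) (x : V.M I),
      e J (hI.mono h) (V.res h x) = W.res h (e I hI x)) (I : Set ι) (hI : I.Nonempty) :
    (homOf e he).app I = e I hI ∘ₗ (plusSub V I).subtype := dif_pos hI

theorem nonempty_equiv_of_nat {V W : Sys k ι} (e : ∀ I : Set ι, I.Nonempty → (V.M I ≃ₗ[k] W.M I))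
    (he : ∀ (I J : Set ι) (hI : I.Nonempty) (h : I ⊆ J) (x : V.M I),
      e J (hI.mono h) (V.res h x) = W.res h (e I hI x)) (p : ℕ) :
    Nonempty (H V p ≃ₗ[k] H W p) := by
  obtain ⟨e₁⟩ := nonempty_equiv_of_bijective (V := plus V) (W := V) (plusHom V) (fun I hI =>
    ⟨Subtype.val_injective, fun x => ⟨⟨x, fun h => absurd hI h⟩, rfl⟩⟩) p
  obtain ⟨e₂⟩ := nonempty_equiv_of_bijective (V := plus V) (W := W)
    (homOf (fun I hI => (e I hI).toLinearMap) he) (fun I hI => by
      rw [homOf_app _ he I hI]
      exact (e I hI).bijective.comp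
        ⟨Subtype.val_injective, fun x => ⟨⟨x, fun h => absurd hI h⟩, rfl⟩⟩) p
  exact ⟨e₁.symm.trans e₂⟩

end Groth.Agent.Lefpen.H722.Glue
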