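import Groth.Agent.Lefpen.H722.GSys
import Groth.Agent.CohqA.LaurentLoc
import Mathlib.RingTheory.MvPolynomial.EulerIdentity
import Mathlib.RingTheory.Ideal.Quotient.Operations
import Mathlib.Algebra.MonoidAlgebra.Support

/-!
# The graded Laurent model of a family of homogeneous equations

`AI k I`: Laurent polynomials with poles only along the variables in `I`; `grA k I m`: those of degree `m`;
`JI G I`: the ideal generated by the equations; `F G I = AI k I ⧸ JI G I`; `gr G I m`: its graded pieces.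
`mkG`: the resulting `GSys`.
-/

set_option autoImplicit false
set_option linter.unusedSectionVars false
universe u

open MvPolynomial

namespace Groth.Agent.Lefpen.H722.Ring

open Groth.Agent.CohqA.LaurentLoc Groth.Agent.CohqA.LaurentCech
open Groth.Agent.Lefpen.H722.GSys

section AI

variable (k : Type u) [CommRing k] {ι : Type}

theorem exists_of_coeff_mul_ne_zero {x y : LR ι k} {m : ι → ℤ} (h : (x * y).coeff m ≠ 0) :
    ∃ m₁ m₂, x.coeff m₁ ≠ 0 ∧ y.coeff m₂ ≠ 0 ∧ m = m₁ + m₂ := by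
  classical
  have h1 := AddMonoidAlgebra.support_coeff_mul_subset x y (Finsupp.mem_support_iff.2 h)
  obtain ⟨m₁, h₁, m₂, h₂, rfl⟩ := Finset.mem_add.1 h1
  exact ⟨m₁, m₂, Finsupp.mem_support_iff.1 h₁, Finsupp.mem_support_iff.1 h₂, rfl⟩

theorem coeff_one_ne_zero {m : ι → ℤ} (h : (1 : LR ι k).coeff m ≠ 0) : m = 0 := by
  classical
  by_contra hm
  apply h
  rw [AddMonoidAlgebra.one_def, AddMonoidAlgebra.coeff_single, Finsupp.single_apply, if_neg]
  exact fun h => hm h.symm

/-- Laurent polynomials with poles only along the variables in `I`. -/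
def AI (I : Set ι) : Subalgebra k (LR ι k) where
  carrier := {x | ∀ m, x.coeff m ≠ 0 → ∀ i, i ∉ I → 0 ≤ m i}
  mul_mem' := by
    intro x y hx hy m hm i hi
    obtain ⟨m₁, m₂, h₁, h₂, rfl⟩ := exists_of_coeff_mul_ne_zero k hm
    have e1 := hx m₁ h₁ i hi
    have e2 := hy m₂ h₂ i hi
    rw [Pi.add_apply]
    omega
  add_mem' := by
    intro x y hx hy m hm i hi
    rw [AddMonoidAlgebra.coeff_add, Finsupp.add_apply] at hm
    by_cases h : x.coeff m = 0
    · rw [h, zero_add] at hm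
      exact hy m hm i hi
    · exact hx m h i hi
  algebraMap_mem' := by
    intro c m hm i _
    have h1 : algebraMap k (LR ι k) c = c • 1 := Algebra.algebraMap_eq_smul_one c
    rw [h1, AddMonoidAlgebra.coeff_smul, Finsupp.smul_apply] at hm
    have h2 : (1 : LR ι k).coeff m ≠ 0 := fun h => hm (by rw [h, smul_zero])
    rw [coeff_one_ne_zero k h2]
    exact le_rfl

variable {k}

theorem mem_AI {I : Set ι} {x : LR ι k} :
    x ∈ AI k I ↔ ∀ m, x.coeff m ≠ 0 → ∀ i, i ∉ I → 0 ≤ m i := Iff.rfl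

theorem AI_mono {I J : Set ι} (h : I ⊆ J) : AI k I ≤ AI k J :=
  fun _ hx m hm i hi => hx m hm i fun h' => hi (h h')

theorem toLaurent_mem (I : Set ι) (P : MvPolynomial ι k) : toLaurent P ∈ AI k I := by
  intro m hm i _
  by_contra hneg
  exact hm (coeff_toLaurent_eq_zero P m i (not_le.mp hneg))

variable [Fintype ι]

theorem mem_AI_of_mem_Lsub {I : Set ι} {m : ℤ} {x : LR ι k} (hx : x.coeff ∈ Lsub k m I) :
    x ∈ AI k I := fun m' hm' => (hx m' hm').2

variable (k) in
/-- The elements of degree `m`. -/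
def grA (I : Set ι) (m : ℤ) : Submodule k (AI k I) where
  carrier := {x | x.1.coeff ∈ Lsub k m I}
  zero_mem' := Submodule.zero_mem (Lsub k m I)
  add_mem' := fun hx hy => Submodule.add_mem (Lsub k m I) hx hy
  smul_mem' := fun c _ hx => Submodule.smul_mem (Lsub k m I) c hx

theorem mem_grA {I : Set ι} {m : ℤ} {x : AI k I} : x ∈ grA k I m ↔ x.1.coeff ∈ Lsub k m I := Iff.rfl

theorem mem_grA_iff {I : Set ι} {m : ℤ} {x : AI k I} :
    x ∈ grA k I m ↔ ∀ e, x.1.coeff e ≠ 0 → ∑ i, e i = m :=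
  ⟨fun h e he => (h e he).1, fun h e he => ⟨h e he, x.2 e he⟩⟩

theorem mul_mem_grA {I : Set ι} {m m' : ℤ} {x y : AI k I} (hx : x ∈ grA k I m)
    (hy : y ∈ grA k I m') : x * y ∈ grA k I (m + m') := by
  rw [mem_grA_iff] at hx hy ⊢
  intro e he
  obtain ⟨m₁, m₂, h₁, h₂, rfl⟩ := exists_of_coeff_mul_ne_zero k he
  simp only [Pi.add_apply]
  rw [Finset.sum_add_distrib, hx m₁ h₁, hy m₂ h₂]

theorem one_mem_grA (I : Set ι) : (1 : AI k I) ∈ grA k I 0 := by
  rw [mem_grA_iff]
  intro e he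
  have : e = 0 := coeff_one_ne_zero k he
  rw [this]
  simp

/-- A polynomial as an element of `AI k I`. -/
noncomputable def ofP (I : Set ι) : MvPolynomial ι k →+* AI k I :=
  RingHom.codRestrict toLaurent (AI k I) (toLaurent_mem I)

theorem ofP_val (I : Set ι) (P : MvPolynomial ι k) : (ofP I P).1 = toLaurent P := rfl

theorem ofP_C (I : Set ι) (c : k) : ofP I (C c) = algebraMap k (AI k I) c := by
  apply Subtype.ext
  rw [ofP_val]
  change toLaurent (monomial 0 c) = algebraMap k (LR ι k) c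
  rw [toLaurent_monomial, map_zero]
  rfl

theorem ofP_mem {I : Set ι} {P : MvPolynomial ι k} {n : ℕ} (hP : P.IsHomogeneous n) :
    ofP I P ∈ grA k I n := by
  rw [mem_grA_iff]
  intro e he
  rw [ofP_val] at he
  have h1 : ∀ i, 0 ≤ e i := fun i => by
    by_contra hneg
    exact he (coeff_toLaurent_eq_zero P e i (not_le.mp hneg))
  obtain ⟨c, rfl⟩ : ∃ c : ι →₀ ℕ, castExp c = e := by
    refine ⟨Finsupp.equivFunOnFinite.symm fun i => (e i).toNat, ?_⟩
    funext i
    simp only [castExp_apply, Finsupp.equivFunOnFinite_symm_apply_apply]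
    exact Int.toNat_of_nonneg (h1 i)
  rw [coeff_toLaurent] at he
  rw [sum_castExp]
  have h2 := hP he
  rw [show (Finsupp.weight 1 : (ι →₀ ℕ) →+ ℕ) = Finsupp.degree from
    (Finsupp.degree_eq_weight_one).symm] at h2
  exact_mod_cast h2

open Classical in
/-- The inverse of the variable `i ∈ I`. -/
noncomputable def invX {I : Set ι} {i : ι} (hi : i ∈ I) : AI k I :=
  ⟨AddMonoidAlgebra.single (-castExp (Finsupp.single i 1)) 1, by
    intro m hm j hj
    rw [AddMonoidAlgebra.coeff_single, Finsupp.single_apply] at hm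
    split_ifs at hm with h
    · rw [← h]
      have hij : i ≠ j := fun h' => hj (h' ▸ hi)
      simp [hij]
    · exact absurd rfl hm⟩

theorem X_mul_invX {I : Set ι} {i : ι} (hi : i ∈ I) : ofP I (X i : MvPolynomial ι k) * invX hi = 1 := by
  apply Subtype.ext
  change toLaurent (monomial (Finsupp.single i 1) 1) * AddMonoidAlgebra.single _ 1 = 1
  rw [toLaurent_monomial]
  exact single_mul_single_neg _

theorem invX_mem {I : Set ι} {i : ι} (hi : i ∈ I) : (invX hi : AI k I) ∈ grA k I (-1) := by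
  classical
  rw [mem_grA_iff]
  intro e he
  change (AddMonoidAlgebra.single (-castExp (Finsupp.single i 1)) (1 : k) : LR ι k).coeff e ≠ 0 at he
  rw [AddMonoidAlgebra.coeff_single, Finsupp.single_apply] at he
  split_ifs at he with h
  · rw [← h]
    simp only [Pi.neg_apply]
    rw [Finset.sum_neg_distrib, sum_castExp]
    simp
  · exact absurd rfl he

end AI

section Quot

variable {k : Type u} [CommRing k] {ι : Type} [Fintype ι] {d : ℕ} (G : Fin d → MvPolynomial ι k)

/-- The ideal of the equations. -/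
noncomputable def JI (I : Set ι) : Ideal (AI k I) := Ideal.span (Set.range fun j => ofP I (G j))

/-- The ring of the model. -/
def F (I : Set ι) : Type u := AI k I ⧸ JI G I

noncomputable instance instCommRingF (I : Set ι) : CommRing (F G I) :=
  inferInstanceAs (CommRing (AI k I ⧸ JI G I))

noncomputable instance instAlgebraF (I : Set ι) : Algebra k (F G I) :=
  inferInstanceAs (Algebra k (AI k I ⧸ JI G I))

/-- The projection. -/
noncomputable def mk (I : Set ι) : AI k I →ₐ[k] F G I := Ideal.Quotient.mkₐ k (JI G I)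

theorem mk_surjective (I : Set ι) : Function.Surjective (mk G I) :=
  Ideal.Quotient.mkₐ_surjective k (JI G I)

theorem mk_eq_zero_iff {I : Set ι} {x : AI k I} : mk G I x = 0 ↔ x ∈ JI G I :=
  Ideal.Quotient.eq_zero_iff_mem

theorem JI_le {I J : Set ι} (h : I ⊆ J) :
    JI G I ≤ (JI G J).comap (Subalgebra.inclusion (AI_mono (k := k) h)) := by
  rw [JI, Ideal.span_le]
  rintro _ ⟨j, rfl⟩
  exact Ideal.subset_span ⟨j, rfl⟩

/-- Restriction. -/
noncomputable def ρ {I J : Set ι} (h : I ⊆ J) : F G I →ₐ[k] F G J :=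
  Ideal.quotientMapₐ (JI G J) (Subalgebra.inclusion (AI_mono (k := k) h)) (JI_le G h)

theorem ρ_mk {I J : Set ι} (h : I ⊆ J) (x : AI k I) :
    ρ G h (mk G I x) = mk G J (Subalgebra.inclusion (AI_mono (k := k) h) x) := rfl

/-- The graded pieces. -/
noncomputable def gr (I : Set ι) (m : ℤ) : Submodule k (F G I) :=
  (grA k I m).map (mk G I).toLinearMap

theorem mk_mem_gr {I : Set ι} {m : ℤ} {x : AI k I} (hx : x ∈ grA k I m) : mk G I x ∈ gr G I m :=
  ⟨x, hx, rfl⟩

theorem exists_of_mem_gr {I : Set ι} {m : ℤ} {x : F G I} (hx : x ∈ gr G I m) :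
    ∃ y ∈ grA k I m, mk G I y = x := hx

theorem mul_mem_gr {I : Set ι} {m m' : ℤ} {x y : F G I} (hx : x ∈ gr G I m) (hy : y ∈ gr G I m') :
    x * y ∈ gr G I (m + m') := by
  obtain ⟨x, hx, rfl⟩ := hx
  obtain ⟨y, hy, rfl⟩ := hy
  exact ⟨x * y, mul_mem_grA hx hy, map_mul (mk G I) x y⟩

theorem one_mem_gr (I : Set ι) : (1 : F G I) ∈ gr G I 0 := ⟨1, one_mem_grA I, map_one (mk G I)⟩

theorem ρ_mem_gr {I J : Set ι} (h : I ⊆ J) {m : ℤ} {x : F G I} (hx : x ∈ gr G I m) :
    ρ G h x ∈ gr G J m := by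
  obtain ⟨x, hx, rfl⟩ := hx
  refine ⟨Subalgebra.inclusion (AI_mono (k := k) h) x, ?_, rfl⟩
  exact fun e he => ⟨(hx e he).1, fun i hi => (hx e he).2 i fun h' => hi (h h')⟩

/-- The coordinates. -/
noncomputable def T (I : Set ι) (i : ι) : F G I := mk G I (ofP I (X i))

/-- The differentials of the equations. -/
noncomputable def v (I : Set ι) (j : ℕ) (i : ι) : F G I :=
  if h : j < d then mk G I (ofP I (pderiv i (G ⟨j, h⟩))) else 0

/-- The degrees, extended by `0`. -/
def aZ (a : Fin d → ℕ) (j : ℕ) : ℤ := if h : j < d then (a ⟨j, h⟩ : ℤ) else 0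

theorem aZ_apply (a : Fin d → ℕ) (j : Fin d) : aZ a j = a j := by
  rw [aZ, dif_pos j.2]

theorem v_apply (I : Set ι) (j : Fin d) (i : ι) : v G I j i = mk G I (ofP I (pderiv i (G j))) := by
  rw [v, dif_pos j.2]

theorem mk_G (I : Set ι) (j : Fin d) : mk G I (ofP I (G j)) = 0 :=
  (mk_eq_zero_iff G).2 (Ideal.subset_span ⟨j, rfl⟩)

/-- The unimodularity condition. -/
def HasΦ (a : Fin d → ℕ) : Prop :=
  ∀ I : Set ι, I.Nonempty → ∃ Φ : ℕ → ι → F G I, (∀ j i, Φ j i ∈ gr G I (1 - aZ a j)) ∧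
    ∀ l j, l < d → j < d → ∑ i, v G I l i * Φ j i = if l = j then 1 else 0

theorem v_mem (a : Fin d → ℕ) (ha : ∀ j, 1 ≤ a j) (hG : ∀ j, (G j).IsHomogeneous (a j))
    (I : Set ι) (j : ℕ) (i : ι) : v G I j i ∈ gr G I (aZ a j - 1) := by
  rw [v]
  split_ifs with h
  · apply mk_mem_gr
    rw [aZ, dif_pos h]
    have h1 := ofP_mem (I := I) ((hG ⟨j, h⟩).pderiv (i := i))
    rwa [Nat.cast_sub (ha _), Nat.cast_one] at h1
  · exact Submodule.zero_mem _

theorem ρ_v {I J : Set ι} (h : I ⊆ J) (j : ℕ) (i : ι) : ρ G h (v G I j i) = v G J j i := by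
  rw [v, v]
  split_ifs
  · rfl
  · exact map_zero _

theorem ρ_T {I J : Set ι} (h : I ⊆ J) (i : ι) : ρ G h (T G I i) = T G J i := rfl

theorem T_mem (I : Set ι) (i : ι) : T G I i ∈ gr G I 1 :=
  mk_mem_gr G (by exact_mod_cast ofP_mem (isHomogeneous_X k i))

theorem T_inv (I : Set ι) (i : ι) (hi : i ∈ I) : ∃ t ∈ gr G I (-1), T G I i * t = 1 :=
  ⟨mk G I (invX hi), mk_mem_gr G (invX_mem hi), by
    rw [T, ← map_mul, X_mul_invX, map_one]⟩

theorem euler (a : Fin d → ℕ) (hG : ∀ j, (G j).IsHomogeneous (a j)) (I : Set ι) (j : ℕ) :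
    ∑ i, v G I j i * T G I i = 0 := by
  by_cases h : j < d
  · have h1 := (hG ⟨j, h⟩).sum_X_mul_pderiv
    have h2 := congrArg (fun P => mk G I (ofP I P)) h1
    simp only [map_sum, map_mul, map_nsmul, mk_G, smul_zero] at h2
    rw [← h2]
    refine Finset.sum_congr rfl fun i _ => ?_
    rw [v, dif_pos h, T]
    exact mul_comm (mk G I (ofP I (pderiv i (G ⟨j, h⟩)))) (mk G I (ofP I (X i)))
  · refine Finset.sum_eq_zero fun i _ => ?_
    rw [v, dif_neg h, zero_mul]

theorem ρ_ρ {I J K : Set ι} (h : I ⊆ J) (h' : J ⊆ K) (x : F G I) :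
    ρ G h' (ρ G h x) = ρ G (h.trans h') x := by
  obtain ⟨x, rfl⟩ := mk_surjective G I x
  rfl

/-- The graded system attached to a family of forms. -/
noncomputable def mkG (a : Fin d → ℕ) (ha : ∀ j, 1 ≤ a j) (hG : ∀ j, (G j).IsHomogeneous (a j))
    (hΦ : HasΦ G a) : GSys k ι where
  F := F G
  cr := instCommRingF G
  al := instAlgebraF G
  ρ := ρ G
  ρ_ρ := ρ_ρ G
  gr := gr G
  mul_mem := mul_mem_gr G
  ρ_mem := ρ_mem_gr G
  T := T G
  T_mem := T_mem G
  ρ_T := ρ_T G
  T_inv := T_inv G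
  a := aZ a
  v := v G
  v_mem := v_mem G a ha hG
  ρ_v := ρ_v G
  euler := euler G a hG
  d := d
  exists_Φ := hΦ

end Quot

end Groth.Agent.Lefpen.H722.Ring
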