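import Mathlib.Algebra.Category.ModuleCat.Abelian
import Mathlib.Algebra.Category.ModuleCat.Kernels
import Mathlib.Algebra.Homology.HomologySequence
import Mathlib.Algebra.Homology.HomologicalComplexAbelian
import Mathlib.Algebra.Homology.Single
import Mathlib.Algebra.Homology.ShortComplex.ModuleCat
import Mathlib.Algebra.Homology.ShortComplex.HomologicalComplex
import Mathlib.LinearAlgebra.Dimension.Finrank
import Mathlib.Data.Fin.Parity

/-!
# Čech systems

A system assigns to every subset `I` of the index set `ι` a `k`-module `M I`, with restriction maps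
`M I → M J` for `I ⊆ J`.  Its (full) Čech complex is
`p ↦ ∏_{σ : Fin (p+1) → ι} M (range σ)`; short exact sequences of systems (exact on every nonempty `I`) give
long exact sequences.
-/

set_option autoImplicit false
set_option linter.dupNamespace false
universe u

open CategoryTheory CategoryTheory.Limits

namespace Groth.Agent.Lefpen.H722.Sys

/-- A Čech system. -/
structure Sys (k : Type u) [CommRing k] (ι : Type) where
  /-- the modules -/
  M : Set ι → Type u
  [acg : ∀ I, AddCommGroup (M I)]
  [mod : ∀ I, Module k (M I)]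
  /-- restriction -/
  res : ∀ {I J : Set ι}, I ⊆ J → M I →ₗ[k] M J
  res_res : ∀ {I J K : Set ι} (h : I ⊆ J) (h' : J ⊆ K) (x : M I),
    res h' (res h x) = res (h.trans h') x

attribute [instance] Sys.acg Sys.mod

variable {k : Type u} [CommRing k] {ι : Type}

/-- Morphisms of systems. -/
structure Hom (V W : Sys k ι) where
  /-- components -/
  app : ∀ I, V.M I →ₗ[k] W.M I
  nat : ∀ {I J : Set ι} (h : I ⊆ J) (x : V.M I), app J (V.res h x) = W.res h (app I x)

variable (V W : Sys k ι)

/-- Cochains. -/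
abbrev C (p : ℕ) : Type u := ∀ σ : Fin (p + 1) → ι, V.M (Set.range σ)

theorem face_subset {p : ℕ} (σ : Fin (p + 2) → ι) (j : Fin (p + 2)) :
    Set.range (σ ∘ j.succAbove) ⊆ Set.range σ := Set.range_comp_subset_range _ _

theorem res_congr {p : ℕ} (s : C V p) {σ σ' : Fin (p + 1) → ι} (h : σ = σ') {J : Set ι}
    (hJ : Set.range σ ⊆ J) (hJ' : Set.range σ' ⊆ J) : V.res hJ (s σ) = V.res hJ' (s σ') := by
  subst h; rfl

/-- The Čech differential. -/
noncomputable def d (p : ℕ) : C V p →ₗ[k] C V (p + 1) :=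
  LinearMap.pi fun σ => ∑ j : Fin (p + 2),
    (-1 : ℤ) ^ (j : ℕ) • (V.res (face_subset σ j) ∘ₗ LinearMap.proj (σ ∘ j.succAbove))

theorem d_apply (p : ℕ) (s : C V p) (σ : Fin (p + 2) → ι) :
    d V p s σ = ∑ j : Fin (p + 2), (-1 : ℤ) ^ (j : ℕ) • V.res (face_subset σ j) (s (σ ∘ j.succAbove)) := by
  simp only [d, LinearMap.pi_apply, LinearMap.sum_apply]
  rfl

theorem d_d (p : ℕ) (s : C V p) : d V (p + 1) (d V p s) = 0 := by
  funext σ
  rw [d_apply]
  change _ = (0 : V.M (Set.range σ))
  have h1 : ∀ i : Fin (p + 3), (-1 : ℤ) ^ (i : ℕ) • V.res (face_subset σ i) (d V p s (σ ∘ i.succAbove)) =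
      ∑ j : Fin (p + 2), (-1 : ℤ) ^ ((i : ℕ) + (j : ℕ)) •
        V.res ((face_subset (σ ∘ i.succAbove) j).trans (face_subset σ i))
          (s ((σ ∘ i.succAbove) ∘ j.succAbove)) := by
    intro i
    rw [d_apply, map_sum, Finset.smul_sum]
    refine Finset.sum_congr rfl fun j _ => ?_
    rw [map_zsmul, V.res_res, smul_smul, pow_add]
  simp only [h1]
  rw [← Finset.sum_product', Finset.univ_product_univ]
  refine Finset.sum_involution (fun p _ => (p.1.succAbove p.2, p.2.predAbove p.1)) ?_ ?_ ?_ ?_
  · rintro ⟨i, j⟩ _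
    dsimp only
    rw [Fin.neg_one_pow_succAbove_add_predAbove, neg_smul]
    have h : (σ ∘ (i.succAbove j).succAbove) ∘ (j.predAbove i).succAbove =
        (σ ∘ i.succAbove) ∘ j.succAbove := by
      funext a
      exact congrArg σ (Fin.succAbove_succAbove_succAbove_predAbove i j a)
    rw [res_congr V s h _ ((face_subset (σ ∘ i.succAbove) j).trans (face_subset σ i)),
      add_neg_cancel]
  · rintro ⟨i, j⟩ _ _ h
    exact Fin.succAbove_ne i j (congrArg Prod.fst h)
  · intro _ _; exact Finset.mem_univ _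
  · rintro ⟨i, j⟩ _
    exact Prod.ext (Fin.succAbove_succAbove_predAbove i j) (Fin.predAbove_predAbove_succAbove i j)

/-- The Čech complex. -/
noncomputable def cx : CochainComplex (ModuleCat.{u} k) ℕ :=
  CochainComplex.of (fun p => ModuleCat.of k (C V p)) (fun p => ModuleCat.ofHom (d V p)) (fun p => by
    apply ModuleCat.hom_ext
    refine LinearMap.ext fun s => ?_
    exact d_d V p s)

theorem cx_d (p : ℕ) : (cx V).d p (p + 1) = ModuleCat.ofHom (d V p) :=
  CochainComplex.of_d (fun p => ModuleCat.of k (C V p)) (fun p => ModuleCat.ofHom (d V p)) p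

/-- Čech cohomology of a system. -/
noncomputable abbrev H (p : ℕ) : Type u := (cx V).homology p

variable {V W}

/-- The map on cochains. -/
def mapC (f : Hom V W) (p : ℕ) : C V p →ₗ[k] C W p :=
  LinearMap.pi fun σ => f.app _ ∘ₗ LinearMap.proj σ

theorem mapC_apply (f : Hom V W) (p : ℕ) (s : C V p) (σ : Fin (p + 1) → ι) :
    mapC f p s σ = f.app _ (s σ) := rfl

theorem mapC_d (f : Hom V W) (p : ℕ) (s : C V p) : mapC f (p + 1) (d V p s) = d W p (mapC f p s) := by
  funext σ
  rw [mapC_apply, d_apply, d_apply, map_sum]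
  refine Finset.sum_congr rfl fun j _ => ?_
  rw [map_zsmul, f.nat]
  rfl

/-- The map of Čech complexes. -/
noncomputable def cxMap (f : Hom V W) : cx V ⟶ cx W :=
  CochainComplex.ofHom (X := cx V) (Y := cx W)
    (fun p => ModuleCat.ofHom (mapC f p)) (fun p => by
    rw [cx_d, cx_d]
    apply ModuleCat.hom_ext
    refine LinearMap.ext fun s => ?_
    exact (mapC_d f p s).symm)

theorem cxMap_f (f : Hom V W) (p : ℕ) : (cxMap f).f p = ModuleCat.ofHom (mapC f p) := rfl

/-! ### Concrete description of vanishing and of degree zero -/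

theorem subsingleton_iff_exact (V : Sys k ι) (p : ℕ) :
    Subsingleton (H V (p + 1)) ↔
      ∀ s : C V (p + 1), d V (p + 1) s = 0 → ∃ t : C V p, d V p t = s := by
  rw [← ModuleCat.isZero_iff_subsingleton, ← HomologicalComplex.exactAt_iff_isZero_homology,
    HomologicalComplex.exactAt_iff' _ p (p + 1) (p + 2) (by simp) (by simp),
    ShortComplex.moduleCat_exact_iff]
  change (∀ x : (cx V).X (p + 1), ((cx V).d (p + 1) (p + 1 + 1)).hom x = 0 →
    ∃ y : (cx V).X p, ((cx V).d p (p + 1)).hom y = x) ↔ _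
  rw [cx_d, cx_d]
  rfl

/-- Degree zero homology as a kernel. -/
noncomputable def h0Equiv (V : Sys k ι) : LinearMap.ker (d V 0) ≃ₗ[k] H V 0 := by
  let K := cx V
  have hinj : Function.Injective (K.iCycles 0).hom := (ModuleCat.mono_iff_injective _).1 inferInstance
  have hrange : LinearMap.range (K.iCycles 0).hom = LinearMap.ker (d V 0) := by
    have hex : (ShortComplex.mk (K.iCycles 0) (K.d 0 1) (K.iCycles_d 0 1)).Exact :=
      ShortComplex.exact_of_f_is_kernel _ (K.cyclesIsKernel 0 1 (by simp))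
    have h1 : LinearMap.range (K.iCycles 0).hom = LinearMap.ker (K.d 0 1).hom :=
      hex.moduleCat_range_eq_ker
    have h2 : K.d 0 1 = ModuleCat.ofHom (d V 0) := cx_d V 0
    rw [h1, h2]
    rfl
  exact (LinearEquiv.ofEq _ _ hrange.symm).trans
    ((LinearEquiv.ofInjective _ hinj).symm.trans (CochainComplex.isoHomologyπ₀ K).toLinearEquiv)

/-! ### Long exact sequences -/

section LES

variable {V' V V'' : Sys k ι}

/-- A short exact sequence of systems (exactness on nonempty subsets only). -/
structure IsSES (f : Hom V' V) (g : Hom V V'') : Prop where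
  inj : ∀ I : Set ι, I.Nonempty → Function.Injective (f.app I)
  exact : ∀ I : Set ι, I.Nonempty → Function.Exact (f.app I) (g.app I)
  surj : ∀ I : Set ι, I.Nonempty → Function.Surjective (g.app I)

theorem cxMap_comp_eq_zero {f : Hom V' V} {g : Hom V V''} (h : IsSES f g) :
    cxMap f ≫ cxMap g = 0 := by
  ext p : 1
  rw [HomologicalComplex.comp_f, cxMap_f, cxMap_f]
  apply ModuleCat.hom_ext
  refine LinearMap.ext fun s => funext fun σ => ?_
  exact (h.exact _ (Set.range_nonempty σ) _).2 ⟨s σ, rfl⟩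

/-- The short complex of Čech complexes. -/
noncomputable def sc {f : Hom V' V} {g : Hom V V''} (h : IsSES f g) :
    ShortComplex (CochainComplex (ModuleCat.{u} k) ℕ) :=
  ShortComplex.mk (cxMap f) (cxMap g) (cxMap_comp_eq_zero h)

theorem sc_shortExact {f : Hom V' V} {g : Hom V V''} (h : IsSES f g) : (sc h).ShortExact := by
  refine HomologicalComplex.shortExact_of_degreewise_shortExact _ fun p => ?_
  have hmono : Mono (ModuleCat.ofHom (mapC f p)) := by
    rw [ModuleCat.mono_iff_injective]
    intro s t hst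
    funext σ
    exact h.inj _ (Set.range_nonempty σ) (congrFun hst σ)
  have hepi : Epi (ModuleCat.ofHom (mapC g p)) := by
    rw [ModuleCat.epi_iff_surjective]
    intro t
    choose s hs using fun σ => h.surj _ (Set.range_nonempty σ) (t σ)
    exact ⟨s, funext hs⟩
  refine ShortComplex.ShortExact.mk' ?_ hmono hepi
  rw [ShortComplex.moduleCat_exact_iff]
  intro t ht
  choose s hs using fun σ : Fin (p + 1) → ι =>
    (h.exact _ (Set.range_nonempty σ) ((show C V p from t) σ)).1 (congrFun ht σ)
  exact ⟨(show C V' p from s), funext hs⟩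

/-- (a) `H^i(V) = 0`, `H^{i+1}(V') = 0` imply `H^i(V'') = 0`. -/
theorem subsingleton_right {f : Hom V' V} {g : Hom V V''} (h : IsSES f g) (i : ℕ)
    (h1 : Subsingleton (H V i)) (h2 : Subsingleton (H V' (i + 1))) : Subsingleton (H V'' i) := by
  rw [← ModuleCat.isZero_iff_subsingleton] at h1 h2 ⊢
  exact ((sc_shortExact h).homology_exact₃ i (i + 1) (by simp)).isZero_X₂ (h1.eq_of_src _ _)
    (h2.eq_of_tgt _ _)

/-- (b) `H^i(V') = 0`, `H^i(V'') = 0` imply `H^i(V) = 0`. -/
theorem subsingleton_middle {f : Hom V' V} {g : Hom V V''} (h : IsSES f g) (i : ℕ)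
    (h1 : Subsingleton (H V' i)) (h2 : Subsingleton (H V'' i)) : Subsingleton (H V i) := by
  rw [← ModuleCat.isZero_iff_subsingleton] at h1 h2 ⊢
  exact ((sc_shortExact h).homology_exact₂ i).isZero_X₂ (h1.eq_of_src _ _) (h2.eq_of_tgt _ _)

/-- (c) `H^i(V'') = 0`, `H^{i+1}(V) = 0` imply `H^{i+1}(V') = 0`. -/
theorem subsingleton_left {f : Hom V' V} {g : Hom V V''} (h : IsSES f g) (i : ℕ)
    (h1 : Subsingleton (H V'' i)) (h2 : Subsingleton (H V (i + 1))) :
    Subsingleton (H V' (i + 1)) := by
  rw [← ModuleCat.isZero_iff_subsingleton] at h1 h2 ⊢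
  exact ((sc_shortExact h).homology_exact₁ i (i + 1) (by simp)).isZero_X₂ (h1.eq_of_src _ _)
    (h2.eq_of_tgt _ _)

/-- (d) `H^i(V) = 0 = H^{i+1}(V)` imply `H^i(V'') ≃ H^{i+1}(V')`. -/
theorem nonempty_equiv_δ {f : Hom V' V} {g : Hom V V''} (h : IsSES f g) (i : ℕ)
    (h1 : Subsingleton (H V i)) (h2 : Subsingleton (H V (i + 1))) :
    Nonempty (H V'' i ≃ₗ[k] H V' (i + 1)) := by
  rw [← ModuleCat.isZero_iff_subsingleton] at h1 h2
  exact ⟨((sc_shortExact h).δIso i (i + 1) (by simp) h1 h2).toLinearEquiv⟩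

/-- (d') `H^i(V) = 0` implies that `H^i(V'') → H^{i+1}(V')` is injective. -/
theorem exists_injective_δ {f : Hom V' V} {g : Hom V V''} (h : IsSES f g) (i : ℕ)
    (h1 : Subsingleton (H V i)) :
    ∃ e : H V'' i →ₗ[k] H V' (i + 1), Function.Injective e := by
  rw [← ModuleCat.isZero_iff_subsingleton] at h1
  have := (sc_shortExact h).mono_δ i (i + 1) (by simp) h1
  exact ⟨((sc_shortExact h).δ i (i + 1) (by simp)).hom, (ModuleCat.mono_iff_injective _).1 this⟩

theorem homologyMap_injective {f : Hom V' V} {g : Hom V V''} (h : IsSES f g) (i : ℕ)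
    (h1 : Subsingleton (H V' i)) :
    Function.Injective (HomologicalComplex.homologyMap (cxMap g) i).hom := by
  rw [← ModuleCat.isZero_iff_subsingleton] at h1
  rw [← ModuleCat.mono_iff_injective]
  exact ((sc_shortExact h).homology_exact₂ i).mono_g (h1.eq_of_src _ _)

theorem homologyMap_surjective {f : Hom V' V} {g : Hom V V''} (h : IsSES f g) (i : ℕ)
    (h1 : Subsingleton (H V' (i + 1))) :
    Function.Surjective (HomologicalComplex.homologyMap (cxMap g) i).hom := by
  rw [← ModuleCat.isZero_iff_subsingleton] at h1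
  rw [← ModuleCat.epi_iff_surjective]
  exact ((sc_shortExact h).homology_exact₃ i (i + 1) (by simp)).epi_f (h1.eq_of_tgt _ _)

/-- (e) `H^i(V') = 0 = H^{i+1}(V')` imply `H^i(V) ≃ H^i(V'')`. -/
theorem nonempty_equiv_right {f : Hom V' V} {g : Hom V V''} (h : IsSES f g) (i : ℕ)
    (h1 : Subsingleton (H V' i)) (h2 : Subsingleton (H V' (i + 1))) :
    Nonempty (H V i ≃ₗ[k] H V'' i) :=
  ⟨LinearEquiv.ofBijective (HomologicalComplex.homologyMap (cxMap g) i).hom
    ⟨homologyMap_injective h i h1, homologyMap_surjective h i h2⟩⟩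

/-- `H^0(V') → H^0(V)` is injective. -/
theorem h0_injective {f : Hom V' V} (h : ∀ I : Set ι, I.Nonempty → Function.Injective (f.app I)) :
    Function.Injective (HomologicalComplex.homologyMap (cxMap f) 0).hom := by
  intro a b hab
  obtain ⟨a, rfl⟩ := (CochainComplex.isoHomologyπ₀ (cx V')).toLinearEquiv.surjective a
  obtain ⟨b, rfl⟩ := (CochainComplex.isoHomologyπ₀ (cx V')).toLinearEquiv.surjective b
  have hnat : (cx V').homologyπ 0 ≫ HomologicalComplex.homologyMap (cxMap f) 0 =
      HomologicalComplex.cyclesMap (cxMap f) 0 ≫ (cx V).homologyπ 0 :=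
    HomologicalComplex.homologyπ_naturality _ _
  have h1 : (HomologicalComplex.cyclesMap (cxMap f) 0 ≫ (cx V).homologyπ 0).hom a =
      (HomologicalComplex.cyclesMap (cxMap f) 0 ≫ (cx V).homologyπ 0).hom b := by
    rw [← hnat]
    exact hab
  have h2 : (HomologicalComplex.cyclesMap (cxMap f) 0).hom a =
      (HomologicalComplex.cyclesMap (cxMap f) 0).hom b :=
    (CochainComplex.isoHomologyπ₀ (cx V)).toLinearEquiv.injective h1
  have h3 : HomologicalComplex.cyclesMap (cxMap f) 0 ≫ (cx V).iCycles 0 =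
      (cx V').iCycles 0 ≫ (cxMap f).f 0 := HomologicalComplex.cyclesMap_i _ _
  have h4 : ((cx V').iCycles 0 ≫ (cxMap f).f 0).hom a = ((cx V').iCycles 0 ≫ (cxMap f).f 0).hom b := by
    rw [← h3]
    exact congrArg ((cx V).iCycles 0).hom h2
  have h5 : Function.Injective ((cx V').iCycles 0).hom := (ModuleCat.mono_iff_injective _).1 inferInstance
  have h6 : a = b := by
    apply h5
    funext σ
    exact h _ (Set.range_nonempty σ) (congrFun h4 σ)
  rw [h6]

/-- (g) `H^0(V) = 0` implies `H^0(V') = 0`. -/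
theorem subsingleton_h0 {f : Hom V' V} (h : ∀ I : Set ι, I.Nonempty → Function.Injective (f.app I))
    (h1 : Subsingleton (H V 0)) : Subsingleton (H V' 0) :=
  (h0_injective h).subsingleton

end LES

/-! ### Isomorphisms and products -/

/-- A morphism of systems bijective on nonempty subsets gives an isomorphism on cohomology. -/
theorem nonempty_equiv_of_bijective (f : Hom V W)
    (h : ∀ I : Set ι, I.Nonempty → Function.Bijective (f.app I)) (p : ℕ) :
    Nonempty (H V p ≃ₗ[k] H W p) := by
  have : IsIso (cxMap f) := by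
    have : ∀ q, IsIso ((cxMap f).f q) := fun q => by
      rw [cxMap_f]
      refine (ConcreteCategory.isIso_iff_bijective _).2 ⟨?_, ?_⟩
      · intro s t hst
        funext σ
        exact (h _ (Set.range_nonempty σ)).1 (congrFun hst σ)
      · intro t
        choose s hs using fun σ => (h _ (Set.range_nonempty σ)).2 ((show C W q from t) σ)
        exact ⟨(show C V q from s), funext hs⟩
    exact HomologicalComplex.Hom.isIso_of_components _
  exact ⟨((HomologicalComplex.homologyFunctor _ _ p).mapIso (asIso (cxMap f))).toLinearEquiv⟩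

/-- The product of a family of systems. -/
def pi {κ : Type} (V : κ → Sys k ι) : Sys k ι where
  M I := ∀ a, (V a).M I
  res h := LinearMap.pi fun a => (V a).res h ∘ₗ LinearMap.proj a
  res_res h h' x := by
    funext a
    exact (V a).res_res h h' (x a)

theorem pi_res {κ : Type} (V : κ → Sys k ι) {I J : Set ι} (h : I ⊆ J) (x : (pi V).M I) (a : κ) :
    (pi V).res h x a = (V a).res h (x a) := rfl

theorem pi_d {κ : Type} (V : κ → Sys k ι) (p : ℕ) (s : C (pi V) p) (σ : Fin (p + 2) → ι) (a : κ) :
    d (pi V) p s σ a = d (V a) p (fun τ => s τ a) σ := by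
  rw [d_apply, d_apply]
  let φ : (pi V).M (Set.range σ) →+ (V a).M (Set.range σ) :=
    { toFun := fun x => x a, map_zero' := rfl, map_add' := fun _ _ => rfl }
  exact map_sum φ (fun j : Fin (p + 2) => (-1 : ℤ) ^ (j : ℕ) •
    (pi V).res (face_subset σ j) (s (σ ∘ j.succAbove))) Finset.univ

theorem subsingleton_pi {κ : Type} (V : κ → Sys k ι) (p : ℕ)
    (h : ∀ a, Subsingleton (H (V a) p)) : Subsingleton (H (pi V) p) := by
  cases p with
  | zero =>
    refine (h0Equiv (pi V)).symm.toEquiv.subsingleton_congr.2 ⟨?_⟩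
    rintro ⟨s, hs⟩ ⟨t, ht⟩
    apply Subtype.ext
    funext σ a
    have hs' : (fun τ => s τ a) ∈ LinearMap.ker (d (V a) 0) := by
      rw [LinearMap.mem_ker]
      funext τ
      rw [← pi_d]
      exact congrFun (congrFun hs τ) a
    have ht' : (fun τ => t τ a) ∈ LinearMap.ker (d (V a) 0) := by
      rw [LinearMap.mem_ker]
      funext τ
      rw [← pi_d]
      exact congrFun (congrFun ht τ) a
    have h1 : Subsingleton (LinearMap.ker (d (V a) 0)) :=
      (h0Equiv (V a)).toEquiv.subsingleton_congr.2 (h a)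
    have h2 := Subsingleton.elim (⟨_, hs'⟩ : LinearMap.ker (d (V a) 0)) ⟨_, ht'⟩
    exact congrFun (congrArg Subtype.val h2) σ
  | succ p =>
    rw [subsingleton_iff_exact]
    intro s hs
    have h1 : ∀ a, ∃ t : C (V a) p, d (V a) p t = fun τ => s τ a := fun a =>
      (subsingleton_iff_exact (V a) p).1 (h a) _ (by
        funext τ
        rw [← pi_d]
        exact congrFun (congrFun hs τ) a)
    choose t ht using h1
    refine ⟨fun τ a => t a τ, ?_⟩
    funext σ a
    rw [pi_d]
    exact congrFun (ht a) σ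

end Groth.Agent.Lefpen.H722.Sys
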